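import Cfsg.Agent.Lib.RecogThree.L33.Order.Conj

/-!
The centres of the Sylow `3`-subgroups: there are `13` or `52` of them.
-/

set_option autoImplicit false
set_option linter.style.haveILetI false
set_option linter.unusedSectionVars false

namespace Cfsg.Agent.Lib.RecogThree.L33.Order.Centres

open Cfsg.Agent.Lib Cfsg.Agent.Lib.Classif
open Chars Three Values Conj

universe u

variable {G : Type u} [Group G] [Finite G] [IsSimpleGroup G] [Fact (Nat.Prime 13)]

/-- A subgroup of order `27` with a generator of its centre. -/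
structure Base (G : Type u) [Group G] [Finite G] [Fact (Nat.Prime 13)] where
  F : Fam G
  P : Subgroup G
  a : G
  hP : Nat.card P = 27
  haZ : a ∈ zc P
  ha : a ≠ 1

theorem exists_base (F : Fam G) : Nonempty (Base G) := by
  obtain ⟨P, hP, -⟩ := exists_27 (card' F) (x := (1 : G)) (one_pow _)
  obtain ⟨a, ha, hne⟩ := (Subgroup.bot_or_exists_ne_one (zc P)).resolve_left
    ((Subgroup.one_lt_card_iff_ne_bot _).mp
      (show 1 < Nat.card (zc P) by rw [card_zc hP (not_abelian F hP)]; norm_num))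
  exact ⟨⟨F, P, a, hP, ha, hne⟩⟩

variable (B : Base G)

theorem card_zcP : Nat.card (zc B.P) = 3 := card_zc B.hP (not_abelian B.F B.hP)

theorem a_cube : B.a ^ 3 = 1 := by
  have h := pow_card_eq_one' (G := zc B.P) (x := ⟨B.a, B.haZ⟩)
  rw [card_zcP B] at h
  simpa using congrArg Subtype.val h

theorem orderOf_a : orderOf B.a = 3 := by
  haveI : Fact (Nat.Prime 3) := ⟨Nat.prime_three⟩
  exact orderOf_eq_prime (a_cube B) B.ha

theorem a_27 : B.a ^ 27 = 1 := pow_27 B.hP (zc_le _ B.haZ)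

/-- The centre is generated by `a`. -/
theorem zc_eq : zc B.P = Subgroup.zpowers B.a :=
  (Subgroup.eq_of_le_of_card_ge (Subgroup.zpowers_le.mpr B.haZ)
    (by rw [Nat.card_zpowers, orderOf_a B, card_zcP B])).symm

theorem le_cent {Q : Subgroup G} {g : G} (hg : g ∈ zc Q) :
    Q ≤ Subgroup.centralizer ({g} : Set G) := fun y hy => by
  rw [Subgroup.mem_centralizer_singleton_iff]
  exact ((mem_zc.mp hg).2 y hy).symm

theorem val_central (F : Fam G) {Q : Subgroup G} (hQ : Nat.card Q = 27) {g : G} (hg : g ∈ zc Q)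
    (hg1 : g ≠ 1) : val F g = 3 :=
  val_eq_three_of_27 F hg1 (pow_27 hQ (zc_le _ hg))
    (hQ ▸ Subgroup.card_dvd_of_le (le_cent hg))

/-- A conjugate of `P`. -/
def conjP (h : G) : Subgroup G := B.P.map (MulAut.conj h).toMonoidHom

theorem mem_conjP {h x : G} : x ∈ conjP B h ↔ h⁻¹ * x * h ∈ B.P := by
  rw [conjP, Subgroup.mem_map_equiv, MulAut.conj_symm_apply]

theorem card_conjP (h : G) : Nat.card (conjP B h) = 27 := by
  rw [conjP, Nat.card_congr (B.P.equivMapOfInjective _ (MulAut.conj h).injective).symm.toEquiv,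
    B.hP]

theorem mem_zc_conjP {h x : G} : x ∈ zc (conjP B h) ↔ h⁻¹ * x * h ∈ zc B.P := by
  rw [mem_zc, mem_zc, mem_conjP]
  refine and_congr_right fun _ => ⟨fun H y hy => ?_, fun H y hy => ?_⟩
  · have := H (h * y * h⁻¹) ((mem_conjP B).mpr (by
      rwa [show h⁻¹ * (h * y * h⁻¹) * h = y by group]))
    calc h⁻¹ * x * h * y = h⁻¹ * (x * (h * y * h⁻¹)) * h := by group
      _ = h⁻¹ * (h * y * h⁻¹ * x) * h := by rw [this]
      _ = y * (h⁻¹ * x * h) := by group
  · have := H _ ((mem_conjP B).mp hy)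
    calc x * y = h * (h⁻¹ * x * h * (h⁻¹ * y * h)) * h⁻¹ := by group
      _ = h * (h⁻¹ * y * h * (h⁻¹ * x * h)) * h⁻¹ := by rw [this]
      _ = y * x := by group

theorem exists_conjP {Q : Subgroup G} (hQ : Nat.card Q = 27) : ∃ h : G, Q = conjP B h := by
  obtain ⟨h, hh⟩ := conj_27 (card' B.F) B.hP hQ
  exact ⟨h, by ext x; rw [mem_conjP, hh]⟩

/-- The normaliser of the centre. -/
abbrev N : Subgroup G := Subgroup.normalizer ((Subgroup.zpowers B.a : Subgroup G) : Set G)

theorem mem_N {n z z' : G} (hz : z ∈ zc B.P) (hz1 : z ≠ 1) (hz' : z' ∈ zc B.P)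
    (h : n * z * n⁻¹ = z') : n ∈ N B := by
  have ez : Subgroup.zpowers z = Subgroup.zpowers B.a := by
    rw [← zc_eq]
    refine Subgroup.eq_of_le_of_card_ge (Subgroup.zpowers_le.mpr hz) ?_
    rw [card_zcP B, Nat.card_zpowers]
    rcases (Nat.dvd_prime Nat.prime_three).mp
      (card_zcP B ▸ Subgroup.orderOf_dvd_natCard _ hz) with e | e
    · exact absurd (orderOf_eq_one_iff.mp e) hz1
    · omega
  show n ∈ Subgroup.normalizer ((Subgroup.zpowers B.a : Subgroup G) : Set G)
  rw [← ez]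
  refine Subgroup.mem_normalizer_fintype fun w hw => ?_
  obtain ⟨k, rfl⟩ := Subgroup.mem_zpowers_iff.mp hw
  rw [SetLike.mem_coe, ← conj_zpow, h, ez, ← zc_eq]
  exact zpow_mem hz' k

/-- The central elements. -/
def IsCentral (g : G) : Prop := ∃ h : G, h⁻¹ * g * h ∈ zc B.P ∧ g ≠ 1

theorem central_facts {g : G} (h : IsCentral B g) :
    g ≠ 1 ∧ g ^ 27 = 1 ∧ val B.F g = 3 ∧ g ^ 3 = 1 := by
  obtain ⟨h, hm, hg1⟩ := h
  have hm' : g ∈ zc (conjP B h) := (mem_zc_conjP B).mpr hm
  refine ⟨hg1, pow_27 (card_conjP B h) (zc_le _ hm'), val_central B.F (card_conjP B h) hm' hg1, ?_⟩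
  have h3 := pow_card_eq_one' (G := zc (conjP B h)) (x := ⟨g, hm'⟩)
  rw [card_zc (card_conjP B h) (not_abelian B.F (card_conjP B h))] at h3
  simpa using congrArg Subtype.val h3

theorem card_central : Nat.card {g : G // IsCentral B g} = 2 * (N B).index := by
  have hz2 : Nat.card {z : zc B.P // z ≠ 1} = 2 := by
    haveI := Fintype.ofFinite (zc B.P)
    classical
    rw [Nat.card_eq_fintype_card, Fintype.card_subtype_compl, Fintype.card_subtype_eq,
      ← Nat.card_eq_fintype_card, card_zcP B]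
  rw [← hz2, Subgroup.index, mul_comm, ← Nat.card_prod]
  refine (Nat.card_eq_of_bijective
    (fun p : (G ⧸ N B) × {z : zc B.P // z ≠ 1} =>
      (⟨p.1.out * (p.2.1 : G) * p.1.out⁻¹, p.1.out, by
        rw [show p.1.out⁻¹ * (p.1.out * (p.2.1 : G) * p.1.out⁻¹) * p.1.out = p.2.1 by group]
        exact p.2.1.2, fun e => p.2.2 (Subtype.ext (conj_eq_one_iff.mp e))⟩ :
          {g : G // IsCentral B g})) ⟨?_, ?_⟩).symm
  · rintro ⟨c, z⟩ ⟨c', z'⟩ hp
    have e : c.out * (z.1 : G) * c.out⁻¹ = c'.out * (z'.1 : G) * c'.out⁻¹ :=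
      congrArg Subtype.val hp
    have hn : c'.out⁻¹ * c.out ∈ N B := mem_N B z.1.2 (fun e => z.2 (Subtype.ext e)) z'.1.2 (by
      calc c'.out⁻¹ * c.out * (z.1 : G) * (c'.out⁻¹ * c.out)⁻¹
          = c'.out⁻¹ * (c.out * (z.1 : G) * c.out⁻¹) * c'.out := by group
        _ = z'.1 := by rw [e]; group)
    obtain rfl : c' = c := by
      have := QuotientGroup.eq.mpr hn
      rwa [QuotientGroup.out_eq', QuotientGroup.out_eq'] at this
    exact Prod.ext rfl (Subtype.ext (Subtype.ext (mul_left_cancel (mul_right_cancel e))))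
  · rintro ⟨g, h, hm, hg1⟩
    obtain ⟨n, hn⟩ := QuotientGroup.mk_out_eq_mul (N B) h
    have hz : (QuotientGroup.mk h : G ⧸ N B).out⁻¹ * g * (QuotientGroup.mk h : G ⧸ N B).out ∈
        zc B.P := by
      rw [hn, zc_eq]
      have := (Subgroup.mem_normalizer_iff.mp (inv_mem n.2) _).mp (zc_eq B ▸ hm)
      simpa [mul_assoc] using this
    refine ⟨⟨QuotientGroup.mk h, ⟨⟨_, hz⟩, fun e => hg1 ?_⟩⟩, Subtype.ext ?_⟩
    · have e' := congrArg Subtype.val e
      simp only [OneMemClass.coe_one] at e'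
      calc g = (QuotientGroup.mk h : G ⧸ N B).out *
            ((QuotientGroup.mk h : G ⧸ N B).out⁻¹ * g * (QuotientGroup.mk h : G ⧸ N B).out) *
            (QuotientGroup.mk h : G ⧸ N B).out⁻¹ := by group
        _ = 1 := by rw [e']; group
    · group

/-- An element with value `3` which is not central has a class of size divisible by `39`. -/
theorem dvd_class {g : G} (hg1 : g ≠ 1) (hg : g ^ 27 = 1) (h3 : val B.F g = 3)
    (hnc : ¬ IsCentral B g) :
    ∃ k, Nat.card (Subgroup.centralizer ({g} : Set G)) * (39 * k) = 5616 := by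
  haveI : Fact (Nat.Prime 3) := ⟨Nat.prime_three⟩
  set C := Subgroup.centralizer ({g} : Set G) with hC
  have h26 := cent_of_three B.F hg1 hg h3
  obtain ⟨Q, hQ, hgQ⟩ := exists_27 (card' B.F) hg
  have h9 := nine_le_cent hQ hgQ
  have hd : Nat.card C ∣ 5616 := B.F.card ▸ Subgroup.card_subgroup_dvd_card _
  have h13 : ¬ 13 ∣ Nat.card C := by
    intro h
    obtain ⟨⟨w, hw⟩, hwo⟩ := exists_prime_orderOf_dvd_card' (G := C) 13 h
    rw [Subgroup.orderOf_mk] at hwo
    have hcomm : Commute w g := Subgroup.mem_centralizer_singleton_iff.mp hw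
    obtain ⟨b, hb, hb1⟩ := FirstPowerData.exists_conj_mem B.F.P B.F.hP B.F.hC
      (g := w) (by rw [hwo])
    have hmem : b * g * b⁻¹ ∈ Subgroup.centralizer ((B.F.P : Subgroup G) : Set G) := by
      rw [Subgroup.mem_centralizer_iff]
      intro z hz
      rw [SetLike.mem_coe, ← PrimeExceptional.zpowers_eq B.F.P B.F.hP hb hb1] at hz
      obtain ⟨i, rfl⟩ := Subgroup.mem_zpowers_iff.mp hz
      have : Commute (b * w * b⁻¹) (b * g * b⁻¹) := hcomm.map (MulAut.conj b).toMonoidHom
      exact (this.zpow_left i).eq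
    rw [B.F.hC] at hmem
    have hd' := Subgroup.orderOf_dvd_natCard _ hmem
    rw [B.F.hP] at hd'
    have ho : orderOf (b * g * b⁻¹) = orderOf g := (MulAut.conj b).orderOf_eq g
    rw [ho] at hd'
    rcases (Nat.dvd_prime Fact.out).mp hd' with e | e
    · exact hg1 (orderOf_eq_one_iff.mp e)
    · exact not_thirteen hg (by rw [e])
  have h27 : ¬ 27 ∣ Nat.card C := by
    intro h
    obtain ⟨Q', hQ'⟩ := Sylow.exists_subgroup_card_pow_prime (G := C) 3 (n := 3)
      (by norm_num; exact h)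
    set R := Q'.map C.subtype with hR
    have hR27 : Nat.card R = 27 := by
      rw [hR, Nat.card_congr (Q'.equivMapOfInjective _ C.subtype_injective).symm.toEquiv, hQ']
      norm_num
    have hRC : R ≤ C := Subgroup.map_subtype_le _
    obtain ⟨h', hh⟩ := exists_conjP B hR27
    have hgR : g ∈ R := by
      have hp : IsPGroup 3 (Subgroup.zpowers g) := by
        refine fun y => ⟨3, ?_⟩
        obtain ⟨k, hk⟩ := Subgroup.mem_zpowers_iff.mp y.2
        apply Subtype.ext
        rw [Subgroup.coe_pow, ← hk, ← zpow_natCast, ← zpow_mul, mul_comm, zpow_mul, zpow_natCast]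
        norm_num [hg]
      let R' : Sylow 3 G := Sylow.ofCard R (by
        rw [hR27, card' B.F, show (27 : ℕ) = 3 ^ 3 by norm_num,
          Nat.factorization_mul (by norm_num) (by norm_num),
          Nat.Prime.factorization_pow Nat.prime_three]
        simp [Nat.factorization_eq_zero_of_not_dvd])
      have hle : Subgroup.zpowers g ≤ Subgroup.normalizer ((R' : Subgroup G) : Set G) := by
        refine Subgroup.zpowers_le.mpr (Subgroup.mem_normalizer_fintype fun y hy => ?_)
        have hc := Subgroup.mem_centralizer_singleton_iff.mp (hRC hy)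
        rw [SetLike.mem_coe, show g * y * g⁻¹ = y by rw [← hc]; group]
        exact hy
      have h1 := hp.inf_normalizer_sylow R'
      have h2 : g ∈ Subgroup.zpowers g ⊓ Subgroup.normalizer ((R' : Subgroup G) : Set G) :=
        ⟨Subgroup.mem_zpowers g, hle (Subgroup.mem_zpowers g)⟩
      exact (h1.le h2).2
    have hgz : g ∈ zc R := mem_zc.mpr ⟨hgR, fun y hy =>
      (Subgroup.mem_centralizer_singleton_iff.mp (hRC hy)).symm⟩
    rw [hh, mem_zc_conjP] at hgz
    exact hnc ⟨h', hgz, hg1⟩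
  have key : ∀ c ∈ Nat.divisors 5616, 9 ∣ c → 26 ≤ c → ¬ 27 ∣ c → ¬ 13 ∣ c →
      c = 36 ∨ c = 72 ∨ c = 144 := by decide +kernel
  rcases key _ (Nat.mem_divisors.mpr ⟨hd, by norm_num⟩) h9 h26 h27 h13 with e | e | e <;> rw [e]
  · exact ⟨4, rfl⟩
  · exact ⟨2, rfl⟩
  · exact ⟨1, rfl⟩

theorem index_cases : (N B).index = 13 ∨
    ((N B).index = 52 ∧ ∀ g : G, g ≠ 1 → g ^ 27 = 1 → val B.F g = 3 → IsCentral B g) := by
  classical
  haveI := Fintype.ofFinite G
  set S := (Sums.threes G).filter fun g => val B.F g = 3 with hS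
  have hS104 : S.card = 104 := (counts B.F).2
  have hc : (S.filter fun g => IsCentral B g).card = 2 * (N B).index := by
    rw [← card_central B, Nat.card_eq_fintype_card, Fintype.card_subtype]
    congr 1
    ext g
    simp only [hS, Finset.mem_filter, Finset.mem_univ, true_and, Sums.mem_threes]
    exact ⟨fun h => h.2, fun h => ⟨⟨⟨(central_facts B h).1, (central_facts B h).2.1⟩,
      (central_facts B h).2.2.1⟩, h⟩⟩
  set W := S.filter fun g => ¬ IsCentral B g with hW
  have hsum : (S.filter fun g => IsCentral B g).card + W.card = S.card :=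
    Finset.card_filter_add_card_filter_not _
  have h39 : 39 ∣ W.card := by
    rw [Finset.card_eq_sum_card_image (fun g => ConjClasses.mk g) W]
    refine Finset.dvd_sum fun K hK => ?_
    obtain ⟨g, hg, rfl⟩ := Finset.mem_image.mp hK
    obtain ⟨hgS, hnc⟩ := Finset.mem_filter.mp hg
    obtain ⟨hgt, h3⟩ := Finset.mem_filter.mp hgS
    obtain ⟨hg1, hg27⟩ := Sums.mem_threes.mp hgt
    obtain ⟨k, hk⟩ := dvd_class B hg1 hg27 h3 hnc
    have hcc := card_isConj g
    rw [B.F.card, ← hk, mul_comm] at hcc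
    have he : (W.filter fun w => ConjClasses.mk w = ConjClasses.mk g) =
        Finset.univ.filter fun w => IsConj g w := by
      ext w
      simp only [Finset.mem_filter, Finset.mem_univ, true_and, ConjClasses.mk_eq_mk_iff_isConj]
      refine ⟨fun h => h.2.symm, fun h => ?_⟩
      obtain ⟨c, rfl⟩ := isConj_iff.mp h
      refine ⟨Finset.mem_filter.mpr ⟨Finset.mem_filter.mpr ⟨Sums.mem_threes.mpr
        (conj_threes hg1 hg27), by rw [val_conj, h3]⟩, fun hcen => hnc ?_⟩, h.symm⟩
      obtain ⟨d, hd, -⟩ := hcen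
      exact ⟨c⁻¹ * d, by rwa [show (c⁻¹ * d)⁻¹ * g * (c⁻¹ * d) =
        d⁻¹ * (c * g * c⁻¹) * d by group], hg1⟩
    rw [he, Nat.eq_of_mul_eq_mul_left Nat.card_pos hcc]
    exact dvd_mul_right 39 k
  obtain ⟨k, hk⟩ := h39
  rw [hc, hk, hS104] at hsum
  rcases (show k = 0 ∨ k = 2 by omega) with rfl | rfl
  · right
    refine ⟨by omega, fun g hg1 hg h3 => ?_⟩
    by_contra hnc
    have : g ∈ W := Finset.mem_filter.mpr
      ⟨Finset.mem_filter.mpr ⟨Sums.mem_threes.mpr ⟨hg1, hg⟩, h3⟩, hnc⟩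
    rw [Finset.card_eq_zero.mp (by omega : W.card = 0)] at this
    exact Finset.notMem_empty g this
  · left; omega

end Cfsg.Agent.Lib.RecogThree.L33.Order.Centres
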