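import Cfsg.Agent.Lib.Classif.PrimeDegrees
import Cfsg.Agent.Lib.Classif.SmallOrderKills4
import Cfsg.Agent.Lib.BC78.Galois
import Cfsg.Agent.Lib.PrincipalCore.Rational
import Cfsg.Agent.Lib.Characters.DefectZero
import Cfsg.Agent.Lib.H80.ClassMult

/-!
The exceptional family of the prime `13` in a simple group of order `5616`.
-/

set_option autoImplicit false
set_option linter.style.haveILetI false
set_option linter.unusedSectionVars false

namespace Cfsg.Agent.Lib.RecogThree.L33.Order.Chars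

open Cfsg.Agent.Lib Cfsg.Agent.Lib.Classif Cfsg.Agent.Lib.Characters
open Cfsg.Agent.Lib.Characters.Basic
open Cfsg.Agent.Lib.Classif.PrimeExceptional (deg apply_one_eq two_le_deg)
open scoped ComplexConjugate

universe u

/-- The data of the family of the prime `13`. -/
structure Fam (G : Type u) [Group G] [Finite G] [Fact (Nat.Prime 13)] where
  card : Nat.card G = 5616
  P : Sylow 13 G
  hP : Nat.card (P : Subgroup G) = 13
  hC : Subgroup.centralizer ((P : Subgroup G) : Set G) = P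
  n13 : Nat.card (Sylow 13 G) = 144
  D : FirstPowerData.Data P 3
  χ : Cfsg.IrrCharacter G
  ψ : Cfsg.IrrCharacter G
  χ_mem : χ ∈ D.K
  ψ_mem : ψ ∈ D.K
  K_cases : ∀ c ∈ D.K, c = χ ∨ c = ψ
  deg_χ : deg χ = 12
  deg_ψ : deg ψ = 27
  a_χ : D.a χ = -1
  a_ψ : D.a ψ = 1
  deg_θ : deg D.θ = 16
  δ_eq : D.δ = 1

theorem live_thirteen : PrimeDegrees.live 5616 13 = [(144, 3)] := by decide +kernel

theorem divisor_table : ∀ d ∈ Nat.divisors 5616, 2 ≤ d →
    (d * d ≤ 5616 → d % 13 = 1 ∨ d % 13 = 12 → d = 12 ∨ d = 27) ∧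
    (4 * (d * d) ≤ 5616 → d % 13 = 3 ∨ d % 13 = 10 → d = 3 ∨ d = 16 ∨ d = 36) := by
  decide +kernel

theorem not_comm {G : Type u} [Group G] [Finite G] [IsSimpleGroup G]
    (h : Nat.card G = 5616) : ¬ IsMulCommutative G :=
  SmallGroups.Sylow.not_comm_of_card (by rw [h]; norm_num)

variable {G : Type u} [Group G] [Finite G] [IsSimpleGroup G] [Fact (Nat.Prime 13)]

theorem exists_fam (h : Nat.card G = 5616) : Nonempty (Fam G) := by
  classical
  have hG := not_comm h
  obtain ⟨P, n, e, c, hmem, hP, hn, hc, hC, ⟨D⟩⟩ :=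
    PrimeDegrees.exists_live hG (p := 13) h (by norm_num) (by norm_num) (by norm_num)
      (by norm_num)
  rw [live_thirteen, List.mem_singleton, Prod.mk.injEq] at hmem
  obtain ⟨rfl, rfl⟩ := hmem
  have hC' : Subgroup.centralizer ((P : Subgroup G) : Set G) = P :=
    SmallOrderKills4.centralizer_eq P hP (by rw [hC, hc])
  have hperf := SmallGroups.Sylow.commutator_eq_top hG
  have ht : D.fam.card = 4 := by have := D.fam_card; omega
  have hdvd : ∀ c : Cfsg.IrrCharacter G, (deg c).natAbs ∈ Nat.divisors 5616 := fun c => by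
    rw [PrimeExceptional.natAbs_deg]
    exact Nat.mem_divisors.mpr ⟨h ▸ H80.ClassMult.charDegree_dvd_card c, by norm_num⟩
  obtain ⟨h2K, h2θ⟩ := D.two_le hperf
  have hsq := D.square_sum
  rw [ht, h] at hsq
  push_cast at hsq
  have hsq1 : ∀ c ∈ D.K, deg c ^ 2 ≤ ∑ x ∈ D.K, deg x ^ 2 := fun c hc =>
    Finset.single_le_sum (fun x _ => sq_nonneg (deg x)) hc
  have hKd : ∀ c ∈ D.K, (deg c = 12 ∧ D.a c = -1) ∨ (deg c = 27 ∧ D.a c = 1) := by
    intro c hc
    have h2 := h2K c hc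
    have hs := hsq1 c hc
    obtain ⟨m, hm⟩ : ∃ m : ℕ, deg c = m := ⟨(deg c).natAbs, by omega⟩
    have hd := hdvd c
    rw [hm, Int.natAbs_natCast] at hd
    have hcong := D.deg_cong hP hc
    have hle : m * m ≤ 5616 := by
      have : ((m * m : ℕ) : ℤ) ≤ 5616 := by
        push_cast
        rw [← hm, ← pow_two]
        nlinarith [sq_nonneg (deg D.θ)]
      exact_mod_cast this
    have hmod : m % 13 = 1 ∨ m % 13 = 12 := by
      rcases D.a_unit c hc with e' | e' <;> rw [e', hm] at hcong <;> omega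
    rcases (divisor_table m hd (by omega)).1 hle hmod with rfl | rfl <;>
      rcases D.a_unit c hc with e' | e' <;> rw [e', hm] at hcong <;>
      first | exact Or.inl ⟨hm, e'⟩ | exact Or.inr ⟨hm, e'⟩ | omega
  have hθd : deg D.θ = 3 ∨ deg D.θ = 16 ∨ deg D.θ = 36 := by
    obtain ⟨m, hm⟩ : ∃ m : ℕ, deg D.θ = m := ⟨(deg D.θ).natAbs, by omega⟩
    have hd := hdvd D.θ
    rw [hm, Int.natAbs_natCast] at hd
    have hcong := D.θ_cong hP
    have hle : 4 * (m * m) ≤ 5616 := by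
      have : ((4 * (m * m) : ℕ) : ℤ) ≤ 5616 := by
        push_cast
        rw [← hm, ← pow_two]
        have : 0 ≤ ∑ x ∈ D.K, deg x ^ 2 := Finset.sum_nonneg fun x _ => sq_nonneg _
        linarith
      exact_mod_cast this
    have hmod : m % 13 = 3 ∨ m % 13 = 10 := by
      rcases D.δ_unit with e' | e' <;> rw [e', hm] at hcong <;> omega
    rcases (divisor_table m hd (by omega)).2 hle hmod with rfl | rfl | rfl <;> simp [hm]
  obtain ⟨c₁, c₂, hne, hK⟩ := Finset.card_eq_two.mp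
    (show D.K.card = 2 by have := D.card_K; omega)
  have hdeq := D.degree_eq
  rw [hK, Finset.sum_pair hne] at hdeq
  have m₁ : c₁ ∈ D.K := by simp [hK]
  have m₂ : c₂ ∈ D.K := by simp [hK]
  have hcases : ∀ c ∈ D.K, c = c₁ ∨ c = c₂ := fun c hc => by simpa [hK] using hc
  rcases hKd c₁ m₁ with ⟨d1, a1⟩ | ⟨d1, a1⟩ <;> rcases hKd c₂ m₂ with ⟨d2, a2⟩ | ⟨d2, a2⟩ <;>
    rw [d1, a1, d2, a2] at hdeq <;>
    rcases D.δ_unit with e' | e' <;> rw [e'] at hdeq <;>
    first
      | omega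
      | exact ⟨⟨h, P, hP, hC', hn, D, c₁, c₂, m₁, m₂, hcases, d1, d2, a1, a2, by omega, e'⟩⟩
      | exact ⟨⟨h, P, hP, hC', hn, D, c₂, c₁, m₂, m₁, fun c hc => (hcases c hc).symm, d2, d1, a2,
          a1, by omega, e'⟩⟩

variable (F : Fam G)

theorem fam_card : F.D.fam.card = 4 := by have := F.D.fam_card; omega

theorem ne_ψ : F.χ ≠ F.ψ := fun h => by
  have := F.deg_χ
  rw [h, F.deg_ψ] at this
  omega

theorem K_eq : ∀ f : Cfsg.IrrCharacter G → ℂ, ∑ c ∈ F.D.K, f c = f F.χ + f F.ψ := by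
  classical
  intro f
  have h : F.D.K = {F.χ, F.ψ} := by
    ext c
    simp only [Finset.mem_insert, Finset.mem_singleton]
    exact ⟨F.K_cases c, fun h => by rcases h with rfl | rfl; exacts [F.χ_mem, F.ψ_mem]⟩
  rw [h, Finset.sum_pair (ne_ψ F)]

theorem card_normalizer :
    Nat.card (Subgroup.normalizer ((F.P : Subgroup G) : Set G)) = 39 := by
  have := SmallGroups.Sylow.card_normalizer_mul F.P
  rw [F.n13, F.card] at this
  omega

theorem rel {g : G} (hg : ¬ 13 ∣ orderOf g) :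
    (F.D.θ : G → ℂ) g = 1 - (F.χ : G → ℂ) g + (F.ψ : G → ℂ) g := by
  have h := F.D.rel g hg
  rw [K_eq F (fun c => (F.D.a c : ℂ) * (c : G → ℂ) g), F.a_χ, F.a_ψ, F.δ_eq] at h
  push_cast at h
  linear_combination -h

include F in
theorem order_thirteen {g : G} (hg : 13 ∣ orderOf g) : orderOf g = 13 := by
  obtain ⟨b, hb, hb1⟩ := FirstPowerData.exists_conj_mem F.P F.hP F.hC hg
  have h := Subgroup.orderOf_dvd_natCard _ hb
  rw [F.hP] at h
  have h' : orderOf (b * g * b⁻¹) = orderOf g := (MulAut.conj b).orderOf_eq g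
  rw [h'] at h
  exact Nat.dvd_antisymm h hg

theorem value_thirteen {g : G} (hg : 13 ∣ orderOf g) :
    (F.χ : G → ℂ) g = -1 ∧ (F.ψ : G → ℂ) g = 1 ∧
      ∑ θ' ∈ F.D.fam, (θ' : G → ℂ) g = -1 := by
  obtain ⟨b, hb, hb1⟩ := FirstPowerData.exists_conj_mem F.P F.hP F.hC hg
  have hv : ∀ c ∈ F.D.K, (c : G → ℂ) g = (F.D.a c : ℂ) := fun c hc => by
    have h := F.D.value c hc _ hb hb1 1 (one_mem _) (by rw [orderOf_one]; norm_num)
    rw [mul_one, isClassFunction_irr c g b] at h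
    exact h
  refine ⟨?_, ?_, ?_⟩
  · rw [hv _ F.χ_mem, F.a_χ]; norm_num
  · rw [hv _ F.ψ_mem, F.a_ψ]; norm_num
  · rw [F.D.fam_singular F.hC g hg, F.δ_eq]; norm_num

theorem ψ_three {g : G} (hg : 3 ∣ orderOf g) : (F.ψ : G → ℂ) g = 0 :=
  DefectZero.apply_eq_zero (p := 3) (n := 3) (r := 208) (e := 1) Nat.prime_three F.ψ
    (by rw [F.card]; norm_num) (by norm_num) (by rw [apply_one_eq, F.deg_ψ]; norm_num) hg

theorem θ_two {g : G} (hg : 2 ∣ orderOf g) : (F.D.θ : G → ℂ) g = 0 :=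
  DefectZero.apply_eq_zero (p := 2) (n := 4) (r := 351) (e := 1) Nat.prime_two F.D.θ
    (by rw [F.card]; norm_num) (by norm_num) (by rw [apply_one_eq, F.deg_θ]; norm_num) hg

theorem other_deg (c : Cfsg.IrrCharacter G) (h1 : c ≠ oneChar G) (hK : c ∉ F.D.K)
    (hf : c ∉ F.D.fam) : (13 : ℤ) ∣ deg c := by
  exact_mod_cast PrimeDegrees.dvd_deg_of_other F.hP F.hC F.D c h1 hK hf

theorem other_zero (c : Cfsg.IrrCharacter G) (h1 : c ≠ oneChar G) (hK : c ∉ F.D.K)
    (hf : c ∉ F.D.fam) {g : G} (hg : 13 ∣ orderOf g) : (c : G → ℂ) g = 0 := by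
  obtain ⟨k, hk⟩ : 13 ∣ (deg c).natAbs := by have := other_deg F c h1 hK hf; omega
  refine DefectZero.apply_eq_zero (p := 13) (n := 1) (r := 432) (e := k) Fact.out c
    (by rw [F.card]; norm_num) (by norm_num) ?_ hg
  have hk' : deg c = ((13 * k : ℕ) : ℤ) := by
    have : 0 ≤ deg c := Int.natCast_nonneg _
    omega
  rw [apply_one_eq, hk', pow_one, Int.cast_natCast]

theorem eq_χ_of_deg (c : Cfsg.IrrCharacter G) (hc : deg c = 12) : c = F.χ := by
  by_cases h1 : c = oneChar G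
  · rw [h1, PrimeExceptional.deg_oneChar] at hc; norm_num at hc
  by_cases hf : c ∈ F.D.fam
  · rw [F.D.fam_deg c hf, F.deg_θ] at hc; norm_num at hc
  by_cases hK : c ∈ F.D.K
  · rcases F.K_cases c hK with rfl | rfl
    · rfl
    · rw [F.deg_ψ] at hc; norm_num at hc
  · have := other_deg F c h1 hK hf
    rw [hc] at this
    norm_num at this

theorem χ_pow {k : ℕ} (hk : k.Coprime 5616) (g : G) :
    (F.χ : G → ℂ) (g ^ k) = (F.χ : G → ℂ) g := by
  have hk' : k.Coprime (Nat.card G) := by rwa [F.card]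
  have he : PrincipalCore.Rational.powIrr hk' F.χ = F.χ := eq_χ_of_deg F _ (by
    have h : ((deg (PrincipalCore.Rational.powIrr hk' F.χ) : ℤ) : ℂ) = ((12 : ℤ) : ℂ) := by
      rw [← apply_one_eq, PrincipalCore.Rational.powIrr_apply, one_pow, apply_one_eq, F.deg_χ]
    exact_mod_cast h)
  rw [← PrincipalCore.Rational.powIrr_apply hk', he]

theorem χ_int (g : G) : ∃ z : ℤ, (F.χ : G → ℂ) g = z := by
  obtain ⟨m, hm⟩ := BC78.Galois.exists_int_of_fixed (isIntegral_apply (isCharacter_irr F.χ) g)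
    fun σ => by
      obtain ⟨k, hk, hσ⟩ := BC78.Galois.exists_exponent_char (G := G) σ
      rw [hσ _ (isCharacter_irr F.χ) g]
      exact χ_pow F (by rwa [F.card] at hk) g
  exact ⟨m, hm.symm⟩

/-- The value of the character of degree twelve. -/
noncomputable def val (g : G) : ℤ := (χ_int F g).choose

theorem val_spec (g : G) : (F.χ : G → ℂ) g = val F g := (χ_int F g).choose_spec

theorem val_pow {k : ℕ} (hk : k.Coprime 5616) (g : G) : val F (g ^ k) = val F g := by
  have h := χ_pow F hk g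
  rw [val_spec, val_spec] at h
  exact_mod_cast h

theorem val_conj (h g : G) : val F (h * g * h⁻¹) = val F g := by
  have e := isClassFunction_irr F.χ g h
  rw [val_spec, val_spec] at e
  exact_mod_cast e

theorem val_inv (g : G) : val F g⁻¹ = val F g := by
  have e := apply_inv (isCharacter_irr F.χ) g
  rw [val_spec, val_spec, map_intCast] at e
  exact_mod_cast e

theorem val_one : val F 1 = 12 := by
  have e := apply_one_eq F.χ
  rw [val_spec, F.deg_χ] at e
  exact_mod_cast e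

theorem not_thirteen {g : G} (hg : g ^ 27 = 1) : ¬ 13 ∣ orderOf g := fun h => by
  have := h.trans (orderOf_dvd_of_pow_eq_one hg)
  norm_num at this

theorem three_dvd {g : G} (hg1 : g ≠ 1) (hg : g ^ 27 = 1) : 3 ∣ orderOf g := by
  obtain ⟨k, -, hk⟩ := (Nat.dvd_prime_pow Nat.prime_three).mp
    (orderOf_dvd_of_pow_eq_one (show g ^ 3 ^ 3 = 1 by norm_num [hg]))
  rcases k with _ | k
  · exact absurd (orderOf_eq_one_iff.mp (by rw [hk, pow_zero])) hg1
  · rw [hk]; exact dvd_pow_self 3 (Nat.succ_ne_zero k)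

theorem fam_three {θ' : Cfsg.IrrCharacter G} (hθ' : θ' ∈ F.D.fam) {g : G} (hg1 : g ≠ 1)
    (hg : g ^ 27 = 1) : (θ' : G → ℂ) g = ((1 - val F g : ℤ) : ℂ) := by
  rw [F.D.fam_regular θ' hθ' g (not_thirteen hg), rel F (not_thirteen hg), val_spec,
    ψ_three F (three_dvd hg1 hg)]
  push_cast
  ring

end Cfsg.Agent.Lib.RecogThree.L33.Order.Chars
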