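import Cfsg.Agent.Lib.RecogThree.L33.Order.Values

/-!
Classes of the elements of `3`-power order, inverting involutions, and the elements of order `3`
normalising a subgroup of order `13`.
-/

set_option autoImplicit false
set_option linter.style.haveILetI false
set_option linter.unusedSectionVars false

namespace Cfsg.Agent.Lib.RecogThree.L33.Order.Conj

open Cfsg.Agent.Lib Cfsg.Agent.Lib.Classif Cfsg.Agent.Lib.Characters
open Cfsg.Agent.Lib.Characters.Basic Chars Three Values
open Cfsg.Agent.Lib.Classif.PrimeExceptional (deg apply_one_eq)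

universe u

variable {G : Type u} [Group G] [Finite G] [IsSimpleGroup G] [Fact (Nat.Prime 13)] (F : Fam G)

theorem conj_threes {g h : G} (hg1 : g ≠ 1) (hg : g ^ 27 = 1) :
    h * g * h⁻¹ ≠ 1 ∧ (h * g * h⁻¹) ^ 27 = 1 :=
  ⟨fun e => hg1 (conj_eq_one_iff.mp e), by rw [conj_pow, hg, mul_one, mul_inv_cancel]⟩

open scoped Classical in
theorem card_isConj [Fintype G] (x : G) :
    (Finset.univ.filter fun w : G => IsConj x w).card *
      Nat.card (Subgroup.centralizer ({x} : Set G)) = Nat.card G := by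
  rw [← Fintype.card_subtype, ← Nat.card_eq_fintype_card]
  exact SmallGroups.Counting.card_isConj_mul x

/-- The elements with value `0` form a single class. -/
theorem isConj_zero {g h : G} (hg1 : g ≠ 1) (hg : g ^ 27 = 1) (hg0 : val F g = 0)
    (hh1 : h ≠ 1) (hh : h ^ 27 = 1) (hh0 : val F h = 0) : IsConj g h := by
  classical
  haveI := Fintype.ofFinite G
  have hc := card_isConj g
  rw [cent_of_zero F hg1 hg hg0, F.card] at hc
  have hsub : (Finset.univ.filter fun w : G => IsConj g w) ⊆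
      (Sums.threes G).filter fun w => val F w = 0 := by
    intro w hw
    obtain ⟨c, rfl⟩ := isConj_iff.mp (Finset.mem_filter.mp hw).2
    exact Finset.mem_filter.mpr ⟨Sums.mem_threes.mpr (conj_threes hg1 hg),
      by rw [val_conj, hg0]⟩
  have he := Finset.eq_of_subset_of_card_le hsub (by rw [(counts F).1]; omega)
  have : h ∈ Finset.univ.filter fun w : G => IsConj g w :=
    he ▸ Finset.mem_filter.mpr ⟨Sums.mem_threes.mpr ⟨hh1, hh⟩, hh0⟩
  exact (Finset.mem_filter.mp this).2

theorem exists_zero : ∃ g : G, g ≠ 1 ∧ g ^ 27 = 1 ∧ val F g = 0 := by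
  classical
  haveI := Fintype.ofFinite G
  obtain ⟨g, hg⟩ := Finset.card_pos.mp
    (show 0 < ((Sums.threes G).filter fun g => val F g = 0).card by rw [(counts F).1]; norm_num)
  obtain ⟨h, h0⟩ := Finset.mem_filter.mp hg
  exact ⟨g, (Sums.mem_threes.mp h).1, (Sums.mem_threes.mp h).2, h0⟩

/-- An element with value `0` is inverted by an involution. -/
theorem exists_inverting {y : G} (hy1 : y ≠ 1) (hy : y ^ 27 = 1) (hy0 : val F y = 0) :
    ∃ u : G, orderOf u = 2 ∧ u * y * u⁻¹ = y⁻¹ := by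
  haveI : Fact (Nat.Prime 2) := ⟨Nat.prime_two⟩
  obtain ⟨g, hg⟩ := isConj_iff.mp (isConj_zero F hy1 hy hy0 (inv_ne_one.mpr hy1)
    (by rw [inv_pow, hy, inv_one]) (by rw [val_inv, hy0]))
  have hg2 : g ^ 2 * y * (g ^ 2)⁻¹ = y := by
    calc g ^ 2 * y * (g ^ 2)⁻¹ = g * (g * y * g⁻¹) * g⁻¹ := by rw [pow_two]; group
      _ = (g * y * g⁻¹)⁻¹ := by rw [hg, conj_inv.symm, hg]
      _ = y := by rw [hg, inv_inv]
  have hgC : g ^ 2 ∈ Subgroup.centralizer ({y} : Set G) :=
    Subgroup.mem_centralizer_singleton_iff.mpr (mul_inv_eq_iff_eq_mul.mp hg2)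
  have hg18 : (g ^ 9) ^ 2 = 1 := by
    have h := pow_card_eq_one' (G := Subgroup.centralizer ({y} : Set G)) (x := ⟨g ^ 2, hgC⟩)
    rw [cent_of_zero F hy1 hy hy0] at h
    have h' : (g ^ 2) ^ 9 = 1 := by simpa using congrArg Subtype.val h
    rwa [← pow_mul, mul_comm, pow_mul] at h'
  have hc8 : Commute ((g ^ 2) ^ 4) y := (show Commute (g ^ 2) y from
    Subgroup.mem_centralizer_singleton_iff.mp hgC).pow_left 4
  have hinv : g ^ 9 * y * (g ^ 9)⁻¹ = y⁻¹ := by
    rw [show g ^ 9 = g * (g ^ 2) ^ 4 by rw [← pow_mul, ← pow_succ']]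
    calc g * (g ^ 2) ^ 4 * y * (g * (g ^ 2) ^ 4)⁻¹
        = g * ((g ^ 2) ^ 4 * y * ((g ^ 2) ^ 4)⁻¹) * g⁻¹ := by group
      _ = y⁻¹ := by rw [hc8.eq, mul_inv_cancel_right, hg]
  refine ⟨g ^ 9, orderOf_eq_prime hg18 fun h => ?_, hinv⟩
  rw [h, one_mul, inv_one, mul_one] at hinv
  have h2 : y ^ 2 = 1 := by rw [pow_two]; nth_rw 1 [hinv]; exact inv_mul_cancel y
  refine hy1 ?_
  have := pow_gcd_eq_one.mpr (⟨h2, hy⟩ : y ^ 2 = 1 ∧ y ^ 27 = 1)
  rwa [show Nat.gcd 2 27 = 1 from rfl, pow_one] at this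

/-- An element of order three normalising a subgroup of order `13` has value `0`. -/
theorem val_normalizer {y : G} (hy : orderOf y = 3)
    (hyN : y ∈ Subgroup.normalizer ((F.P : Subgroup G) : Set G)) : val F y = 0 := by
  classical
  haveI := Fintype.ofFinite G
  set N := Subgroup.normalizer ((F.P : Subgroup G) : Set G) with hNdef
  have hy1 : y ≠ 1 := fun h => by rw [h, orderOf_one] at hy; omega
  have hy3 : y ^ 3 = 1 := hy ▸ pow_orderOf_eq_one y
  rcases val_cases_cube F hy1 hy3 with h | h3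
  · exact h
  exfalso
  have hfree : ∀ q ∈ (F.P : Subgroup G), ∀ w : G, q * w = w * q → w = y ∨ w = y ^ 2 → q = 1 := by
    intro q hq w hqw hw
    by_contra hq1
    have hwC : w ∈ Subgroup.centralizer ((F.P : Subgroup G) : Set G) := by
      rw [Subgroup.mem_centralizer_iff]
      intro z hz
      rw [SetLike.mem_coe, ← PrimeExceptional.zpowers_eq F.P F.hP hq hq1] at hz
      obtain ⟨i, rfl⟩ := Subgroup.mem_zpowers_iff.mp hz
      exact ((show Commute q w from hqw).zpow_left i).eq
    rw [F.hC] at hwC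
    have hd := Subgroup.orderOf_dvd_natCard _ hwC
    rw [F.hP] at hd
    have hw3 : orderOf w = 3 := by
      rcases hw with rfl | rfl
      · exact hy
      · rw [orderOf_pow' _ (by norm_num), hy]; rfl
    rw [hw3] at hd
    norm_num at hd
  -- the elements outside `P` are conjugate to a power of `y`
  have hout : ∀ g ∈ N, g ∉ (F.P : Subgroup G) →
      g ≠ 1 ∧ g ^ 27 = 1 ∧ val F g = 3 := by
    intro g hg hgP
    obtain ⟨w, hw, hgw⟩ : ∃ w, (w = y ∨ w = y ^ 2) ∧ g * w⁻¹ ∈ (F.P : Subgroup G) := by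
      haveI : ((F.P : Subgroup G).subgroupOf N).Normal := Subgroup.normal_in_normalizer
      have hQ : Nat.card (N ⧸ (F.P : Subgroup G).subgroupOf N) = 3 := by
        have h := Subgroup.card_eq_card_quotient_mul_card_subgroup ((F.P : Subgroup G).subgroupOf N)
        rw [card_normalizer F, Nat.card_congr
          (Subgroup.subgroupOfEquivOfLe Subgroup.le_normalizer).toEquiv, F.hP] at h
        omega
      have hyq : ((⟨y, hyN⟩ : N) : N ⧸ (F.P : Subgroup G).subgroupOf N) ≠ 1 := by
        rw [Ne, QuotientGroup.eq_one_iff, Subgroup.mem_subgroupOf]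
        intro hyP
        have hd := Subgroup.orderOf_dvd_natCard _ hyP
        rw [hy, F.hP] at hd
        norm_num at hd
      haveI : Fact (Nat.Prime 3) := ⟨Nat.prime_three⟩
      have hz := zpowers_eq_top_of_prime_card hQ hyq
      obtain ⟨i, hi⟩ := (mem_powers_iff_mem_zpowers.mpr (hz ▸ Subgroup.mem_top _) :
        ((⟨g, hg⟩ : N) : N ⧸ (F.P : Subgroup G).subgroupOf N) ∈ Submonoid.powers _)
      simp only [← QuotientGroup.mk_pow] at hi
      have hi' := QuotientGroup.eq.mp hi
      rw [Subgroup.mem_subgroupOf] at hi'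
      simp only [Subgroup.coe_mul, Subgroup.coe_inv, SubmonoidClass.coe_pow] at hi'
      rw [← pow_mod_orderOf, hy] at hi'
      have hn' : g * (y ^ (i % 3))⁻¹ ∈ (F.P : Subgroup G) := by
        have := (Subgroup.mem_normalizer_iff.mp (pow_mem hyN (i % 3)) _).mp hi'
        rwa [mul_inv_cancel_left] at this
      rcases (show i % 3 = 0 ∨ i % 3 = 1 ∨ i % 3 = 2 by omega) with e | e | e <;> rw [e] at hn'
      · rw [pow_zero, inv_one, mul_one] at hn'
        exact absurd hn' hgP
      · exact ⟨y, Or.inl rfl, by rwa [pow_one] at hn'⟩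
      · exact ⟨y ^ 2, Or.inr rfl, hn'⟩
    have hwN : w ∈ N := by rcases hw with rfl | rfl; exacts [hyN, pow_mem hyN 2]
    let f : ↥(F.P : Subgroup G) → ↥(F.P : Subgroup G) := fun q =>
      ⟨q.1 * w * q.1⁻¹ * w⁻¹, by
        rw [show q.1 * w * q.1⁻¹ * w⁻¹ = q.1 * (w * q.1⁻¹ * w⁻¹) by group]
        exact mul_mem q.2 ((Subgroup.mem_normalizer_iff.mp hwN _).mp (inv_mem q.2))⟩
    have hf : Function.Injective f := by
      intro q r hqr
      have e : q.1 * w * q.1⁻¹ * w⁻¹ = r.1 * w * r.1⁻¹ * w⁻¹ := congrArg Subtype.val hqr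
      have := hfree (r.1⁻¹ * q.1) (mul_mem (inv_mem r.2) q.2) w (by
        calc r.1⁻¹ * q.1 * w = r.1⁻¹ * (q.1 * w * q.1⁻¹ * w⁻¹) * w * q.1 := by group
          _ = r.1⁻¹ * (r.1 * w * r.1⁻¹ * w⁻¹) * w * q.1 := by rw [e]
          _ = w * (r.1⁻¹ * q.1) := by group) hw
      exact Subtype.ext (inv_mul_eq_one.mp this).symm
    obtain ⟨q, hq⟩ := (Finite.injective_iff_surjective.mp hf) ⟨_, hgw⟩
    have hgq : g = q.1 * w * q.1⁻¹ := by
      have e : q.1 * w * q.1⁻¹ * w⁻¹ = g * w⁻¹ := congrArg Subtype.val hq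
      exact (mul_right_cancel e).symm
    have hw1 : w ≠ 1 ∧ w ^ 27 = 1 ∧ val F w = 3 := by
      have h27 : y ^ 27 = 1 := by rw [show 27 = 3 * 9 by norm_num, pow_mul, hy3, one_pow]
      rcases hw with rfl | rfl
      · exact ⟨hy1, h27, h3⟩
      · have e : y ^ 2 = y⁻¹ := eq_inv_of_mul_eq_one_left (by rw [← pow_succ, hy3])
        rw [e]
        exact ⟨inv_ne_one.mpr hy1, by rw [inv_pow, h27, inv_one], by rw [val_inv, h3]⟩
    rw [hgq]
    exact ⟨(conj_threes hw1.1 hw1.2.1).1, (conj_threes hw1.1 hw1.2.1).2, by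
      rw [val_conj, hw1.2.2]⟩
  -- the sum of the exceptional characters over the normaliser
  have hnat : ∃ n : ℕ, ∑ g : N, Sums.theta F g = (39 : ℂ) * n := by
    choose n hn using fun c : Cfsg.IrrCharacter G => H80.ClassMult.exists_sum_subgroup c N
    refine ⟨∑ c ∈ F.D.fam, n c, ?_⟩
    rw [Nat.cast_sum, Finset.mul_sum]
    simp only [Sums.theta]
    rw [Finset.sum_comm]
    exact Finset.sum_congr rfl fun c _ => by rw [hn c, card_normalizer F, Nat.cast_ofNat]
  obtain ⟨n, hn⟩ := hnat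
  have hval : ∀ g : N, Sums.theta F g =
      if (g : G) = 1 then 64 else if (g : G) ∈ (F.P : Subgroup G) then -1 else -8 := by
    intro g
    split_ifs with h1 hP
    · rw [h1, Sums.theta_one]
    · refine (value_thirteen F ?_).2.2
      have hd := Subgroup.orderOf_dvd_natCard _ hP
      rw [F.hP] at hd
      rcases (Nat.dvd_prime Fact.out).mp hd with e | e
      · exact absurd (orderOf_eq_one_iff.mp e) h1
      · rw [e]
    · obtain ⟨a1, a27, a3⟩ := hout g g.2 hP
      rw [Sums.theta_three F (Sums.mem_threes.mpr ⟨a1, a27⟩), a3]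
      norm_num
  rw [Finset.sum_congr rfl fun g _ => hval g] at hn
  have hone : (Finset.univ.filter fun g : N => (g : G) = 1).card = 1 := by
    rw [Finset.card_eq_one]
    exact ⟨1, by ext g; simp⟩
  have hP13 : ((Finset.univ.filter fun g : N => ¬ (g : G) = 1).filter
      fun g : N => (g : G) ∈ (F.P : Subgroup G)).card = 12 := by
    rw [Finset.filter_filter, ← Fintype.card_subtype, ← Nat.card_eq_fintype_card,
      Nat.card_congr (β := {x : (F.P : Subgroup G) // x ≠ 1})
        { toFun := fun g => ⟨⟨g.1.1, g.2.2⟩, fun e => g.2.1 (congrArg Subtype.val e)⟩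
          invFun := fun x => ⟨⟨x.1.1, Subgroup.le_normalizer x.1.2⟩,
            fun e => x.2 (Subtype.ext e), x.1.2⟩
          left_inv := fun g => rfl
          right_inv := fun x => rfl },
      Nat.card_eq_fintype_card, Fintype.card_subtype_compl, Fintype.card_subtype_eq,
      ← Nat.card_eq_fintype_card, F.hP]
  have hN : (Finset.univ : Finset N).card = 39 := by
    rw [Finset.card_univ, ← Nat.card_eq_fintype_card, card_normalizer F]
  have hsplit := Finset.card_filter_add_card_filter_not (s := (Finset.univ : Finset N))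
    (fun g : N => (g : G) = 1)
  have hsplit2 := Finset.card_filter_add_card_filter_not
    (s := Finset.univ.filter fun g : N => ¬ (g : G) = 1)
    (fun g : N => (g : G) ∈ (F.P : Subgroup G))
  rw [hone, hN] at hsplit
  rw [hP13] at hsplit2
  rw [Finset.sum_ite, Finset.sum_ite, Finset.sum_const, Finset.sum_const, Finset.sum_const, hone,
    hP13, show (Finset.filter (fun g : N => ¬ (g : G) ∈ (F.P : Subgroup G))
      (Finset.univ.filter fun g : N => ¬ (g : G) = 1)).card = 26 by omega] at hn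
  norm_num at hn
  have hre := congrArg Complex.re hn
  norm_num at hre
  have : (0 : ℝ) ≤ n := Nat.cast_nonneg n
  linarith

end Cfsg.Agent.Lib.RecogThree.L33.Order.Conj
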