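import Cfsg.Agent.Lib.RecogThree.L33.Order.Centres
import Cfsg.Agent.Lib.RecogThree.L33.PairNine

/-!
A simple group of order `5616` has a subgroup of index `13`.
-/

set_option autoImplicit false
set_option linter.style.haveILetI false
set_option linter.unusedSectionVars false

namespace Cfsg.Agent.Lib.RecogThree.L33.Order.Index13

open Cfsg.Agent.Lib Cfsg.Agent.Lib.Classif
open Chars Three Values Conj Centres

universe u

variable {G : Type u} [Group G] [Finite G] [IsSimpleGroup G] [Fact (Nat.Prime 13)] (B : Base G)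

theorem central_of_mem_zc {g : G} (hg : g ∈ zc B.P) (hg1 : g ≠ 1) : IsCentral B g :=
  ⟨1, by simpa using hg, hg1⟩

theorem nine_le_inf {P : Subgroup G} (F : Fam G) (hP : Nat.card P = 27) {y : G} (hy : y ∈ P)
    (hyz : y ∉ zc P) : Nat.card ↥(P ⊓ Subgroup.centralizer ({y} : Set G)) = 9 := by
  set K := P ⊓ Subgroup.centralizer ({y} : Set G)
  have hd : Nat.card K ∣ 27 := hP ▸ Subgroup.card_dvd_of_le (inf_le_left : K ≤ P)
  have hle : zc P ≤ K := fun z hz => ⟨zc_le P hz,
    Subgroup.mem_centralizer_singleton_iff.mpr ((mem_zc.mp hz).2 y hy)⟩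
  have h3 := card_lt_of_mem hle (x := y) ⟨hy, Subgroup.mem_centralizer_singleton_iff.mpr rfl⟩ hyz
  have := card_zc hP (not_abelian F hP)
  rcases dvd_cases hd with e | e | e | e
  · omega
  · omega
  · exact e
  · exfalso
    have hK : K = P := Subgroup.eq_of_le_of_card_ge inf_le_left (by omega)
    refine hyz (mem_zc.mpr ⟨hy, fun w hw => ?_⟩)
    have hw' : w ∈ K := hK ▸ hw
    exact (Subgroup.mem_centralizer_singleton_iff.mp hw'.2).symm

/-- Some non-central element of `P` has value `3`. -/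
theorem exists_y (hm : (N B).index = 52) :
    ∃ y ∈ B.P, y ∉ zc B.P ∧ val B.F y = 3 := by
  classical
  haveI := Fintype.ofFinite G
  by_contra hno
  push Not at hno
  have h0 : ∀ (h b : G), b ∈ conjP B h → b ∉ zc (conjP B h) →
      b ≠ 1 ∧ b ^ 27 = 1 ∧ val B.F b = 0 := by
    intro h b hb hbz
    have hb1 : b ≠ 1 := fun e => hbz (e ▸ one_mem _)
    have h27 := pow_27 (card_conjP B h) hb
    refine ⟨hb1, h27, (val_cases B.F hb1 h27).resolve_right fun h3 => ?_⟩
    refine hno _ ((mem_conjP B).mp hb) (fun hz => hbz ((mem_zc_conjP B).mpr hz)) ?_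
    have e := val_conj B.F h⁻¹ b
    rw [inv_inv] at e
    rw [e, h3]
  let T : Type u := Σ c : G ⧸ N B, {b : G // b ∈ conjP B c.out ∧ b ∉ zc (conjP B c.out)}
  have hdisj : ∀ (c c' : G ⧸ N B) (b : G), b ∈ conjP B c.out → b ∉ zc (conjP B c.out) →
      b ∈ conjP B c'.out → b ∉ zc (conjP B c'.out) → c = c' := by
    intro c c' b hb hbz hb' hbz'
    obtain ⟨hb1, h27, hv⟩ := h0 _ _ hb hbz
    have hC := cent_of_zero B.F hb1 h27 hv
    have hK : conjP B c.out ⊓ Subgroup.centralizer ({b} : Set G) =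
        Subgroup.centralizer ({b} : Set G) :=
      Subgroup.eq_of_le_of_card_ge inf_le_right
        (by rw [hC, nine_le_inf B.F (card_conjP B _) hb hbz])
    set a' := c'.out * B.a * c'.out⁻¹ with ha'
    have ha'1 : a' ≠ 1 := fun e => B.ha (conj_eq_one_iff.mp e)
    have ha'z : a' ∈ zc (conjP B c'.out) := (mem_zc_conjP B).mpr (by
      rw [ha', show c'.out⁻¹ * (c'.out * B.a * c'.out⁻¹) * c'.out = B.a by group]
      exact B.haZ)
    have ha'C : a' ∈ Subgroup.centralizer ({b} : Set G) :=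
      Subgroup.mem_centralizer_singleton_iff.mpr ((mem_zc.mp ha'z).2 b hb')
    rw [← hK] at ha'C
    have haz : a' ∈ zc (conjP B c.out) := by
      by_contra hn
      have := (h0 _ _ ha'C.1 hn).2.2
      rw [val_central B.F (card_conjP B _) ha'z ha'1] at this
      norm_num at this
    rw [mem_zc_conjP] at haz
    have hn : c.out⁻¹ * c'.out ∈ N B := mem_N B B.haZ B.ha haz (by rw [ha']; group)
    have := QuotientGroup.eq.mpr hn
    rwa [QuotientGroup.out_eq', QuotientGroup.out_eq'] at this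
  have h24 : ∀ h : G, Nat.card {b : G // b ∈ conjP B h ∧ b ∉ zc (conjP B h)} = 24 := by
    intro h
    rw [Nat.card_eq_fintype_card, Fintype.card_subtype]
    have hsplit := Finset.card_filter_add_card_filter_not
      (s := Finset.univ.filter fun b : G => b ∈ conjP B h) (fun b => b ∈ zc (conjP B h))
    rw [Finset.filter_filter, Finset.filter_filter,
      Finset.filter_congr (q := fun b => b ∈ zc (conjP B h)) fun b _ =>
        ⟨fun h => h.2, fun h => ⟨zc_le _ h, h⟩⟩,
      ← Fintype.card_subtype, ← Nat.card_eq_fintype_card,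
      ← Fintype.card_subtype (fun b : G => b ∈ conjP B h), ← Nat.card_eq_fintype_card] at hsplit
    have h1 := card_conjP B h
    have h2 := card_zc h1 (not_abelian B.F h1)
    omega
  have hT : Nat.card T = 1248 := by
    haveI := Fintype.ofFinite (G ⧸ N B)
    rw [Nat.card_sigma, Finset.sum_congr rfl fun c _ => h24 c.out, Finset.sum_const, smul_eq_mul,
      Finset.card_univ, ← Nat.card_eq_fintype_card,
      show Nat.card (G ⧸ N B) = (N B).index from rfl, hm]
  have hle : Nat.card T ≤ 624 := by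
    rw [← (counts B.F).1, ← Fintype.card_coe, ← Nat.card_eq_fintype_card]
    refine Nat.card_le_card_of_injective (fun p : T => ⟨p.2.1, ?_⟩) ?_
    · obtain ⟨h1, h27, hv⟩ := h0 _ _ p.2.2.1 p.2.2.2
      exact Finset.mem_filter.mpr ⟨Sums.mem_threes.mpr ⟨h1, h27⟩, hv⟩
    · rintro ⟨c, b, hb, hbz⟩ ⟨c', b', hb', hbz'⟩ e
      obtain rfl : b = b' := congrArg Subtype.val e
      obtain rfl := hdisj c c' b hb hbz hb' hbz'
      rfl
  omega

/-- The pair of Sylow subgroups with centre of the second one in the first. -/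
theorem exists_pair (hm : (N B).index = 52)
    (hall : ∀ g : G, g ≠ 1 → g ^ 27 = 1 → val B.F g = 3 → IsCentral B g) :
    ∃ S : PairNine.Pair G, S.P = B.P ∧ S.a = B.a := by
  haveI : Fact (Nat.Prime 3) := ⟨Nat.prime_three⟩
  obtain ⟨y, hy, hyz, hy3⟩ := exists_y B hm
  have hy1 : y ≠ 1 := fun e => hyz (e ▸ one_mem _)
  have hc := hall y hy1 (pow_27 B.hP hy) hy3
  have hycube := (central_facts B hc).2.2.2
  obtain ⟨h, hh, -⟩ := hc
  set C := Subgroup.centralizer ({y} : Set G) with hC
  have h27C : 27 ∣ Nat.card C :=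
    card_conjP B h ▸ Subgroup.card_dvd_of_le (le_cent ((mem_zc_conjP B).mpr hh))
  set D := B.P ⊓ C with hD
  have hDc : Nat.card D = 9 := nine_le_inf B.F B.hP hy hyz
  obtain ⟨Q, hQ⟩ := (IsPGroup.of_card (n := 2)
    (by rw [Nat.card_congr (Subgroup.subgroupOfEquivOfLe (inf_le_right : D ≤ C)).toEquiv, hDc]
        norm_num :
      Nat.card (D.subgroupOf C) = 3 ^ 2)).exists_le_sylow
  set R := (Q : Subgroup C).map C.subtype with hR
  have hQc : Nat.card (Q : Subgroup C) = 27 := by
    have hd : Nat.card C ∣ 5616 := B.F.card ▸ Subgroup.card_subgroup_dvd_card _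
    obtain ⟨k, hk⟩ := h27C
    have hk3 : ¬ 3 ∣ k := fun hd3 => by
      have : 81 ∣ 5616 := dvd_trans (hk ▸ Nat.mul_dvd_mul_left 27 hd3) hd
      norm_num at this
    exact SmallGroups.Sylow.card_sylow_eq Q (a := 3) (m := k) (by rw [hk]; norm_num) hk3
  have hR27 : Nat.card R = 27 := by
    rw [hR, Nat.card_congr ((Q : Subgroup C).equivMapOfInjective _
      C.subtype_injective).symm.toEquiv, hQc]
  have hDR : D ≤ R := fun x hx => ⟨⟨x, hx.2⟩, hQ (Subgroup.mem_subgroupOf.mpr hx), rfl⟩
  have hRC : R ≤ C := Subgroup.map_subtype_le _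
  have hyR : y ∈ R := hDR ⟨hy, Subgroup.mem_centralizer_singleton_iff.mpr rfl⟩
  have hyzR : y ∈ zc R := mem_zc.mpr ⟨hyR, fun w hw =>
    (Subgroup.mem_centralizer_singleton_iff.mp (hRC hw)).symm⟩
  have haR : B.a ∈ R := hDR ⟨zc_le _ B.haZ,
    Subgroup.mem_centralizer_singleton_iff.mpr ((mem_zc.mp B.haZ).2 y hy)⟩
  have hZR := card_zc hR27 (not_abelian B.F hR27)
  have haB : B.a ∉ zc R := by
    intro haz
    apply hyz
    rcases mem_three hZR hyzR hy1 haz with e | e | e
    · exact absurd e B.ha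
    · rw [← e]; exact B.haZ
    · have : y = B.a * B.a := by
        calc y = y ^ 3 * y := by rw [hycube, one_mul]
          _ = B.a * B.a := by rw [e]; simp only [pow_succ, pow_zero, one_mul, mul_assoc]
      rw [this]; exact mul_mem B.haZ B.haZ
  have hPR : Nat.card ↥(B.P ⊓ R) = 9 := by
    have hd : Nat.card ↥(B.P ⊓ R) ∣ 27 :=
      B.hP ▸ Subgroup.card_dvd_of_le (inf_le_left : B.P ⊓ R ≤ B.P)
    have hge : 9 ≤ Nat.card ↥(B.P ⊓ R) :=
      hDc ▸ Subgroup.card_le_of_le (le_inf (inf_le_left : D ≤ B.P) hDR)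
    have hP27 := B.hP
    rcases dvd_cases hd with e | e | e | e
    · omega
    · omega
    · exact e
    · exfalso
      have h1 : B.P ⊓ R = B.P := Subgroup.eq_of_le_of_card_ge inf_le_left (by omega)
      have h2 : B.P ≤ R := h1 ▸ inf_le_right
      exact hyz (mem_zc.mpr ⟨hy, fun w hw => (mem_zc.mp hyzR).2 w (h2 hw)⟩)
  exact ⟨⟨B.P, R, B.a, y, B.hP, hR27, card_zcP B, hZR, B.haZ, B.ha, hyzR, hy1, haR, hy, hyz,
    haB, hPR⟩, rfl, rfl⟩

theorem card_cent_a (S : PairNine.Pair G) (hSa : S.a = B.a)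
    (hall : ∀ g : G, g ≠ 1 → g ^ 27 = 1 → val B.F g = 3 → IsCentral B g) :
    Nat.card (Subgroup.centralizer ({B.a} : Set G)) = 54 := by
  classical
  haveI := Fintype.ofFinite G
  have hinv : IsConj B.a B.a⁻¹ := by
    obtain ⟨n, -, hn⟩ := PairNine.orbit S (inv_mem (PairNine.a_mem S)) (inv_ne_one.mpr S.ha)
    exact isConj_iff.mpr ⟨n, hSa ▸ hn⟩
  have he : (Finset.univ.filter fun w : G => IsConj B.a w) =
      (Sums.threes G).filter fun w => val B.F w = 3 := by
    ext w
    simp only [Finset.mem_filter, Finset.mem_univ, true_and, Sums.mem_threes]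
    constructor
    · intro hw
      obtain ⟨c, rfl⟩ := isConj_iff.mp hw
      exact ⟨conj_threes B.ha (a_27 B), by
        rw [val_conj, val_central B.F B.hP B.haZ B.ha]⟩
    · rintro ⟨⟨h1, h27⟩, h3⟩
      obtain ⟨h, hm, -⟩ := hall w h1 h27 h3
      have hw : IsConj (h⁻¹ * w * h) w := isConj_iff.mpr ⟨h, by group⟩
      rcases mem_three (card_zcP B) B.haZ B.ha hm with e | e | e <;> rw [e] at hw
      · exact absurd (isConj_one_right.mp hw) h1
      · exact hw
      · rw [show B.a * B.a = B.a⁻¹ from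
          eq_inv_of_mul_eq_one_left (by rw [← pow_two, ← pow_succ, a_cube B])] at hw
        exact hinv.trans hw
  have h := card_isConj B.a
  rw [he, (counts B.F).2, B.F.card] at h
  omega

/-- An element of `P` commuting with an involution centralising `a` lies in the centre. -/
theorem mem_zc_of_commute (hC : Nat.card (Subgroup.centralizer ({B.a} : Set G)) = 54) {t : G}
    (ht : orderOf t = 2) (hta : t ∈ Subgroup.centralizer ({B.a} : Set G)) {y : G} (hy : y ∈ B.P)
    (hyt : Commute y t) : y ∈ zc B.P := by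
  by_contra hyz
  have hPC := le_cent B.haZ
  have htt : t * t = 1 := by rw [← pow_two, ← ht]; exact pow_orderOf_eq_one t
  have hti : t⁻¹ = t := inv_eq_of_mul_eq_one_right htt
  have hP' : ∀ p ∈ B.P, t * p * t ∈ B.P := fun p hp =>
    mem_of_index_two hPC (by rw [hC, B.hP]) (mul_mem (mul_mem hta (hPC hp)) hta) (by
      rw [show t * p * t = t * p * t⁻¹ by rw [hti], conj_pow, pow_27 B.hP hp]; group)
  set K := B.P ⊓ Subgroup.centralizer ({y} : Set G)
  have hK : Nat.card K = 9 := nine_le_inf B.F B.hP hy hyz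
  have hzt : ∀ z ∈ zc B.P, Commute z t := by
    intro z hz
    have hat : Commute B.a t := (Subgroup.mem_centralizer_singleton_iff.mp hta).symm
    rcases mem_three (card_zcP B) B.haZ B.ha hz with rfl | rfl | rfl
    · exact Commute.one_left t
    · exact hat
    · exact hat.mul_left hat
  have hM : K ≤ Subgroup.centralizer ({t} : Set G) := by
    set M := K ⊓ Subgroup.centralizer ({t} : Set G)
    have hzM : zc B.P ≤ M := fun z hz => ⟨⟨zc_le _ hz,
      Subgroup.mem_centralizer_singleton_iff.mpr ((mem_zc.mp hz).2 y hy)⟩,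
      Subgroup.mem_centralizer_singleton_iff.mpr (hzt z hz).eq⟩
    have hyM : y ∈ M := ⟨⟨hy, Subgroup.mem_centralizer_singleton_iff.mpr rfl⟩,
      Subgroup.mem_centralizer_singleton_iff.mpr hyt.eq⟩
    have h1 := card_lt_of_mem hzM hyM hyz
    rw [card_zcP B] at h1
    have hd : Nat.card M ∣ 9 := hK ▸ Subgroup.card_dvd_of_le (inf_le_left : M ≤ K)
    have := Nat.le_of_dvd (by norm_num) hd
    have h9 : Nat.card M = 9 := by
      rcases dvd_cases (dvd_trans hd (by norm_num : 9 ∣ 27)) with e | e | e | e <;> omega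
    exact (Subgroup.eq_of_le_of_card_ge (inf_le_left : M ≤ K) (by rw [hK]; exact h9.ge)) ▸ inf_le_right
  have hcent : ∀ p ∈ B.P, Commute p t := by
    intro p hp
    set q := t * p * t with hq
    have hqP : q ∈ B.P := hP' p hp
    have hc := commutator_mem B.hP (card_zcP B) hp hy
    have hqy : q * y * q⁻¹ = p * y * p⁻¹ := by
      have h1 : t * (p * y * p⁻¹ * y⁻¹) * t = p * y * p⁻¹ * y⁻¹ := by
        rw [mul_assoc, (hzt _ hc).eq, ← mul_assoc, htt, one_mul]
      have h2 : t * y * t = y := by rw [mul_assoc, hyt.eq, ← mul_assoc, htt, one_mul]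
      calc q * y * q⁻¹ = (t * p * t) * (t * y * t) * (t * p⁻¹ * t) := by
            rw [h2, hq]; simp only [mul_inv_rev, hti, mul_assoc]
        _ = t * p * (t * t) * y * (t * t) * p⁻¹ * t := by simp only [mul_assoc]
        _ = t * (p * y * p⁻¹) * t := by simp only [htt, mul_one, mul_assoc]
        _ = t * (p * y * p⁻¹ * y⁻¹) * t * (t * y * t) := by
          rw [show t * (p * y * p⁻¹ * y⁻¹) * t * (t * y * t) =
            t * (p * y * p⁻¹ * y⁻¹) * (t * t) * y * t by group, htt]
          group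
        _ = p * y * p⁻¹ := by rw [h1, h2]; group
    have hd : p⁻¹ * q ∈ K := ⟨B.P.mul_mem (B.P.inv_mem hp) hqP, by
      show p⁻¹ * q ∈ Subgroup.centralizer ({y} : Set G)
      rw [Subgroup.mem_centralizer_singleton_iff]
      calc p⁻¹ * q * y = p⁻¹ * (q * y * q⁻¹) * q := by group
        _ = p⁻¹ * (p * y * p⁻¹) * q := by rw [hqy]
        _ = y * (p⁻¹ * q) := by group⟩
    have hdt := Subgroup.mem_centralizer_singleton_iff.mp (hM hd)
    have hinv : (p⁻¹ * q) ^ 2 = 1 := by
      have h1 : t * (p⁻¹ * q) * t = q⁻¹ * p := by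
        rw [hq]
        simp only [mul_inv_rev, hti, mul_assoc, htt, mul_one]
      have h2 : t * (p⁻¹ * q) * t = p⁻¹ * q := by
        rw [← hdt, mul_assoc, htt, mul_one]
      rw [pow_two]
      nth_rewrite 1 [← h2, h1]
      group
    have h27 := pow_27 B.hP hd.1
    have h1 : p⁻¹ * q = 1 := by
      have := pow_gcd_eq_one.mpr (⟨hinv, h27⟩ : (p⁻¹ * q) ^ 2 = 1 ∧ (p⁻¹ * q) ^ 27 = 1)
      rwa [show Nat.gcd 2 27 = 1 from rfl, pow_one] at this
    have hpq : q = p := (inv_mul_eq_one.mp h1).symm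
    rw [commute_iff_eq]
    calc p * t = q * t := by rw [hpq]
      _ = t * p := by rw [hq, mul_assoc, htt, mul_one]
  obtain ⟨g, hg1, hg27, hg0⟩ := exists_zero B.F
  obtain ⟨Q, hQ, hgQ⟩ := exists_27 (card' B.F) hg27
  obtain ⟨h, rfl⟩ := exists_conjP B hQ
  have hgP := (mem_conjP B).mp hgQ
  have e := val_conj B.F h⁻¹ g
  rw [inv_inv] at e
  have h9 := cent_of_zero B.F (g := h⁻¹ * g * h)
    (fun e1 => hg1 (by rw [show g = h * (h⁻¹ * g * h) * h⁻¹ by group, e1]; group))
    (pow_27 B.hP hgP) (by rw [e, hg0])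
  have h2 : orderOf t ∣ 9 := h9 ▸ Subgroup.orderOf_dvd_natCard _
    (Subgroup.mem_centralizer_singleton_iff.mpr (hcent _ hgP).symm.eq)
  rw [ht] at h2
  norm_num at h2

include B in
theorem exists_index_thirteen : ∃ H : Subgroup G, H.index = 13 := by
  rcases index_cases B with h | ⟨hm, hall⟩
  · exact ⟨_, h⟩
  obtain ⟨S, hSP, hSa⟩ := exists_pair B hm hall
  have h54 := card_cent_a B S hSa hall
  haveI : Fact (Nat.Prime 2) := ⟨Nat.prime_two⟩
  obtain ⟨⟨t, hta⟩, ht⟩ := exists_prime_orderOf_dvd_card'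
    (G := Subgroup.centralizer ({B.a} : Set G)) 2 (by rw [h54]; norm_num)
  rw [Subgroup.orderOf_mk] at ht
  have htt : t * t = 1 := by rw [← pow_two, ← ht]; exact pow_orderOf_eq_one t
  have hti : t⁻¹ = t := inv_eq_of_mul_eq_one_right htt
  have hPC := le_cent B.haZ
  have hat : Commute B.a t := (Subgroup.mem_centralizer_singleton_iff.mp hta).symm
  have hta' : t * B.a * t⁻¹ = B.a := by rw [← hat.eq]; group
  have hP' : ∀ p ∈ B.P, t * p * t⁻¹ ∈ B.P := fun p hp =>
    mem_of_index_two hPC (by rw [h54, B.hP]) (mul_mem (mul_mem hta (hPC hp)) (inv_mem hta))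
      (by rw [conj_pow, pow_27 B.hP hp]; group)
  have hbP : S.b ∈ B.P := hSP ▸ S.hbP
  set E := PairNine.E S
  set b' := t * S.b * t⁻¹ with hb'def
  have hb' : b' ∈ B.P := hP' _ hbP
  have htb' : t * b' * t⁻¹ = S.b := by
    rw [hb'def, hti]
    calc t * (t * S.b * t) * t = (t * t) * S.b * (t * t) := by group
      _ = S.b := by rw [htt]; group
  set y := S.b * b'
  set c := b' * S.b * b'⁻¹ * S.b⁻¹
  have hc : c ∈ zc B.P := commutator_mem B.hP (card_zcP B) hb' hbP
  have hct : t * c * t⁻¹ = c := by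
    rcases mem_three (card_zcP B) B.haZ B.ha hc with h | h | h <;> rw [h]
    · group
    · exact hta'
    · calc t * (B.a * B.a) * t⁻¹ = (t * B.a * t⁻¹) * (t * B.a * t⁻¹) := by group
        _ = B.a * B.a := by rw [hta']
  have hty : t * y * t⁻¹ = c * y := by
    calc t * y * t⁻¹ = (t * S.b * t⁻¹) * (t * b' * t⁻¹) := by simp only [y]; group
      _ = b' * S.b := by rw [← hb'def, htb']
      _ = c * y := by simp only [c, y]; group
  have hcc : c * c = 1 := by
    have h2 : t * (t * y * t⁻¹) * t⁻¹ = y := by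
      rw [hti]
      calc t * (t * y * t) * t = (t * t) * y * (t * t) := by group
        _ = y := by rw [htt]; group
    rw [hty, show t * (c * y) * t⁻¹ = (t * c * t⁻¹) * (t * y * t⁻¹) by group, hct, hty,
      ← mul_assoc] at h2
    exact mul_eq_right.mp h2
  have hc1 : c = 1 := by
    have := pow_gcd_eq_one.mpr (⟨by rw [pow_two, hcc], pow_27 B.hP (zc_le _ hc)⟩ :
      c ^ 2 = 1 ∧ c ^ 27 = 1)
    rwa [show Nat.gcd 2 27 = 1 from rfl, pow_one] at this
  rw [hc1, one_mul] at hty
  have hyt : Commute y t := by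
    rw [commute_iff_eq]
    calc y * t = t * y * t⁻¹ * t := by rw [hty]
      _ = t * y := by group
  have hyz := mem_zc_of_commute B h54 ht hta (mul_mem hbP hb') hyt
  have hzE : zc B.P ≤ E := by
    rw [zc_eq, Subgroup.zpowers_le, ← hSa]
    exact PairNine.a_mem S
  have htN : t ∈ Subgroup.normalizer ((E : Subgroup G) : Set G) := by
    refine PairNine.mem_normalizer S (by rw [hSa, hta', ← hSa]; exact PairNine.a_mem S) ?_
    rw [← hb'def, show b' = S.b⁻¹ * y by simp only [y]; group]
    exact mul_mem (inv_mem (PairNine.b_mem S)) (hzE hyz)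
  have hle : Subgroup.centralizer ({S.a} : Set G) ≤
      Subgroup.normalizer ((E : Subgroup G) : Set G) := by
    rw [hSa]
    intro x hx
    by_cases hxP : x ∈ B.P
    · exact PairNine.P_le S (hSP ▸ hxP)
    have hi : (B.P.subgroupOf (Subgroup.centralizer ({B.a} : Set G))).index = 2 := by
      have h := Subgroup.card_mul_index (B.P.subgroupOf (Subgroup.centralizer ({B.a} : Set G)))
      rw [Nat.card_congr (Subgroup.subgroupOfEquivOfLe hPC).toEquiv, h54, B.hP] at h
      omega
    have htP : t ∉ B.P := by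
      intro h
      have := Subgroup.orderOf_dvd_natCard _ h
      rw [ht, B.hP] at this
      norm_num at this
    have hxt : x * t ∈ B.P := by
      have hiff := Subgroup.mul_mem_iff_of_index_two hi (a := ⟨x, hx⟩) (b := ⟨t, hta⟩)
      simp only [Subgroup.mem_subgroupOf, Subgroup.coe_mul] at hiff
      exact hiff.mpr ⟨fun h => absurd h hxP, fun h => absurd h htP⟩
    have := mul_mem (PairNine.P_le S (hSP ▸ hxt)) htN
    rwa [mul_assoc, htt, mul_one] at this
  refine ⟨Subgroup.normalizer ((E : Subgroup G) : Set G), ?_⟩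
  have h := Subgroup.card_mul_index (Subgroup.normalizer ((E : Subgroup G) : Set G))
  rw [PairNine.card_normalizer S (hSa ▸ h54) hle, B.F.card] at h
  omega

end Cfsg.Agent.Lib.RecogThree.L33.Order.Index13
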