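import Cfsg.Agent.Lib.RecogThree.L33.Order.Index13
import Cfsg.Agent.Lib.RecogThree.L33.Model
import Cfsg.Agent.Lib.RecogThree.L33.Example

/-!
Every simple group of order `5616` is isomorphic to `PSL(3,3)`.
-/

set_option autoImplicit false
set_option linter.style.haveILetI false
set_option linter.unusedSectionVars false

namespace Cfsg.Agent.Lib.RecogThree.L33.Order.Main

open Cfsg.Agent.Lib Cfsg.Agent.Lib.Classif
open Chars

universe u

variable {G : Type u} [Group G] [Finite G] [IsSimpleGroup G]

theorem seed [Fact (Nat.Prime 13)] (F : Fam G) : Model.Seed G := by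
  haveI : Fact (Nat.Prime 3) := ⟨Nat.prime_three⟩
  have hP : ∀ P : Sylow 13 G, Nat.card (P : Subgroup G) = 13 := fun P => by
    rw [SmallGroups.Sylow.card_sylow_eq P (a := 1) (m := 432) (by rw [F.card]; norm_num)
      (by norm_num), pow_one]
  have hN : ∀ P : Sylow 13 G,
      Nat.card (Subgroup.normalizer ((P : Subgroup G) : Set G)) = 39 := fun P => by
    have := SmallGroups.Sylow.card_normalizer_mul P
    rw [F.n13, F.card] at this
    omega
  obtain ⟨B⟩ := Centres.exists_base F
  refine ⟨F.card, hP, hN, ?_, Index13.exists_index_thirteen B, ?_⟩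
  · intro x hx
    obtain ⟨b, hb, hb1⟩ := FirstPowerData.exists_conj_mem F.P F.hP F.hC (g := x) (by rw [hx])
    refine le_antisymm (fun c hc => ?_) (Subgroup.zpowers_le.mpr
      (Subgroup.mem_centralizer_singleton_iff.mpr rfl))
    have hz := PrimeExceptional.zpowers_eq F.P F.hP hb hb1
    have hmem : b * c * b⁻¹ ∈ Subgroup.centralizer ((F.P : Subgroup G) : Set G) := by
      rw [Subgroup.mem_centralizer_iff]
      intro z hz'
      rw [SetLike.mem_coe, ← hz] at hz'
      obtain ⟨i, rfl⟩ := Subgroup.mem_zpowers_iff.mp hz'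
      have hcomm : Commute x c := (Subgroup.mem_centralizer_singleton_iff.mp hc).symm
      exact ((hcomm.map (MulAut.conj b).toMonoidHom).zpow_left i).eq
    rw [F.hC, ← hz] at hmem
    obtain ⟨i, hi⟩ := Subgroup.mem_zpowers_iff.mp hmem
    rw [conj_zpow] at hi
    exact Subgroup.mem_zpowers_iff.mpr ⟨i, mul_left_cancel (mul_right_cancel hi)⟩
  · intro x y hx hy hyx
    obtain ⟨b, hb, hb1⟩ := FirstPowerData.exists_conj_mem F.P F.hP F.hC (g := x) (by rw [hx])
    have hz := PrimeExceptional.zpowers_eq F.P F.hP hb hb1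
    have ho : orderOf (b * y * b⁻¹) = 3 := ((MulAut.conj b).orderOf_eq y).trans hy
    have hmem : b * y * b⁻¹ ∈ Subgroup.normalizer ((F.P : Subgroup G) : Set G) := by
      refine Subgroup.mem_normalizer_fintype fun n hn => ?_
      rw [SetLike.mem_coe, ← hz] at hn ⊢
      obtain ⟨k, rfl⟩ := Subgroup.mem_zpowers_iff.mp hn
      have e : b * y * b⁻¹ * (b * x * b⁻¹) * (b * y * b⁻¹)⁻¹ = (b * x * b⁻¹) ^ 3 := by
        rw [conj_pow, ← hyx]; group
      rw [← conj_zpow, e]
      exact Subgroup.zpow_mem _ (Subgroup.npow_mem_zpowers _ 3) k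
    have h0 := Conj.val_normalizer F ho hmem
    rw [val_conj] at h0
    exact Conj.exists_inverting F (fun h => by rw [h, orderOf_one] at hy; omega)
      (by rw [show 27 = orderOf y * 9 by rw [hy], pow_mul, pow_orderOf_eq_one, one_pow]) h0

theorem exists_model [Fact (Nat.Prime 13)] (h : Nat.card G = 5616) :
    Nonempty (Model.Model G) := by
  obtain ⟨F⟩ := exists_fam h
  exact Model.exists_model_of_seed (seed F)

/-- A simple group of order `5616` is unique up to isomorphism. -/
theorem nonempty_mulEquiv {H : Type*} [Group H] [Finite H] [IsSimpleGroup H]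
    (hG : Nat.card G = 5616) (hH : Nat.card H = 5616) : Nonempty (G ≃* H) := by
  haveI : Fact (Nat.Prime 13) := ⟨by norm_num⟩
  obtain ⟨M⟩ := exists_model hG
  obtain ⟨M'⟩ := exists_model hH
  exact Model.nonempty_mulEquiv M M'

/-- A simple group of order `5616` is `PSL(3,3)`. -/
theorem unique_of_order (hG : Nat.card G = 5616) :
    Nonempty (G ≃* Matrix.ProjectiveSpecialLinearGroup (Fin 3) (ZMod 3)) := by
  haveI := Example.isSimple
  haveI : Finite (Matrix.SpecialLinearGroup (Fin 3) (ZMod 3)) :=
    Nat.finite_of_card_ne_zero (by rw [Spectrum.SLThreeThree.card_SL3]; norm_num)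
  obtain ⟨e⟩ := nonempty_mulEquiv (H := (Matrix.SpecialLinearGroup (Fin 3) (ZMod 3))) hG (by rw [Spectrum.SLThreeThree.card_SL3])
  exact ⟨e.trans Example.toPSL⟩

end Cfsg.Agent.Lib.RecogThree.L33.Order.Main
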