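import Cfsg.Agent.Lib.RecogThree.L33.Order.Chars

/-!
Class multiplication: products of two conjugates of an element of `3`-power order equal to an
element of order `13`.
-/

set_option autoImplicit false
set_option linter.style.haveILetI false
set_option linter.unusedSectionVars false

namespace Cfsg.Agent.Lib.RecogThree.L33.Order.Mult

open Cfsg.Agent.Lib Cfsg.Agent.Lib.Classif Cfsg.Agent.Lib.Characters
open Cfsg.Agent.Lib.Characters.Basic Chars
open Cfsg.Agent.Lib.Classif.PrimeExceptional (deg apply_one_eq)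
open scoped ComplexConjugate

universe u

variable {G : Type u} [Group G]

/-- The pairs whose conjugates multiply to `w`. -/
def sols (u v w : G) : Set (G × G) :=
  {ab | ab.1 * u * ab.1⁻¹ * (ab.2 * v * ab.2⁻¹) = w}

theorem conj_cent {u c : G} (hc : c ∈ Subgroup.centralizer ({u} : Set G)) (a : G) :
    a * c * u * (a * c)⁻¹ = a * u * a⁻¹ := by
  calc a * c * u * (a * c)⁻¹ = a * (c * u) * (c⁻¹ * a⁻¹) := by group
    _ = a * (u * c) * (c⁻¹ * a⁻¹) := by rw [Subgroup.mem_centralizer_singleton_iff.mp hc]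
    _ = a * u * a⁻¹ := by group

/-- The number of solutions is divisible by the product of the two centralisers. -/
theorem dvd_card_sols (u v w : G) :
    Nat.card (Subgroup.centralizer ({u} : Set G)) *
      Nat.card (Subgroup.centralizer ({v} : Set G)) ∣ Nat.card (sols u v w) := by
  set H : Subgroup (G × G) :=
    (Subgroup.centralizer ({u} : Set G)).prod (Subgroup.centralizer ({v} : Set G)) with hH
  have hset : sols u v w = QuotientGroup.mk (s := H) ⁻¹' (QuotientGroup.mk '' sols u v w) := by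
    refine Set.Subset.antisymm (Set.subset_preimage_image _ _) ?_
    rintro ⟨a, b⟩ ⟨⟨a', b'⟩, hmem, he⟩
    have hh := QuotientGroup.eq.mp he
    rw [hH, Subgroup.mem_prod] at hh
    obtain ⟨hu, hv⟩ := hh
    simp only [Prod.fst_mul, Prod.fst_inv, Prod.snd_mul, Prod.snd_inv] at hu hv
    have e1 := conj_cent hu a'
    have e2 := conj_cent hv b'
    rw [mul_inv_cancel_left] at e1 e2
    show a * u * a⁻¹ * (b * v * b⁻¹) = w
    rw [e1, e2]
    exact hmem
  rw [Nat.card_congr ((Equiv.setCongr hset).trans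
    (QuotientGroup.preimageMkEquivSubgroupProdSet H _)), Nat.card_prod, hH,
    Nat.card_congr (Subgroup.prodEquiv _ _).toEquiv, Nat.card_prod]
  exact Dvd.intro _ rfl

variable [Fintype G] [Fintype (Cfsg.IrrCharacter G)]

theorem sum_sum_conj (c : Cfsg.IrrCharacter G) (u v w : G) :
    ∑ a : G, ∑ b : G, (c : G → ℂ) (w⁻¹ * (a * u * a⁻¹) * (b * v * b⁻¹)) =
      (Nat.card G : ℂ) ^ 2 * (c : G → ℂ) w⁻¹ * (c : G → ℂ) u * (c : G → ℂ) v /
        (c : G → ℂ) 1 ^ 2 := by
  simp only [H80.ClassMult.sum_apply_mul_conj, ← Finset.sum_div, ← Finset.sum_mul,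
    ← Finset.mul_sum]
  have h1 := apply_one_ne_zero c
  field_simp

/-- The number of solutions in terms of the characters. -/
theorem card_sols (u v w : G) :
    (Nat.card (sols u v w) : ℂ) = (Nat.card G : ℂ) * ∑ c : Cfsg.IrrCharacter G,
      (c : G → ℂ) w⁻¹ * (c : G → ℂ) u * (c : G → ℂ) v / (c : G → ℂ) 1 := by
  classical
  have hG : (Nat.card G : ℂ) ≠ 0 := Nat.cast_ne_zero.mpr Nat.card_pos.ne'
  have h : ∑ c : Cfsg.IrrCharacter G, (c : G → ℂ) 1 *
      ∑ a : G, ∑ b : G, (c : G → ℂ) (w⁻¹ * (a * u * a⁻¹) * (b * v * b⁻¹)) =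
        (Nat.card G : ℂ) * Nat.card (sols u v w) := by
    simp only [Finset.mul_sum]
    rw [Finset.sum_comm]
    conv_lhs => enter [2, a]; rw [Finset.sum_comm]
    simp only [Complete.sum_degree_mul_apply, mul_assoc, inv_mul_eq_one]
    rw [← Fintype.sum_prod_type' (f := fun a b : G =>
      if w = a * (u * (a⁻¹ * (b * (v * b⁻¹)))) then (Nat.card G : ℂ) else 0), ← Finset.sum_filter,
      Finset.sum_const, nsmul_eq_mul, mul_comm, ← Fintype.card_subtype,
      ← Nat.card_eq_fintype_card]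
    congr 2
    refine Nat.card_congr (Equiv.subtypeEquivRight fun ab => ?_)
    show _ ↔ _ = w
    simp only [mul_assoc]
    exact eq_comm
  apply mul_left_cancel₀ hG
  rw [← h, Finset.mul_sum, Finset.mul_sum]
  refine Finset.sum_congr rfl fun c _ => ?_
  rw [sum_sum_conj]
  have h1 := apply_one_ne_zero c
  field_simp

variable [IsSimpleGroup G] [Fact (Nat.Prime 13)] (F : Fam G)

/-- A sum over the characters vanishing outside the family. -/
theorem sum_eq (f : Cfsg.IrrCharacter G → ℂ)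
    (hf : ∀ c, c ≠ oneChar G → c ∉ F.D.K → c ∉ F.D.fam → f c = 0) :
    ∑ c, f c = f (oneChar G) + (f F.χ + f F.ψ + ∑ c ∈ F.D.fam, f c) := by
  classical
  rw [← K_eq F f, ← Finset.sum_union F.D.fam_disj, ← Finset.sum_insert (a := oneChar G)
    (by simp [F.D.one_not_mem, F.D.fam_one])]
  refine (Finset.sum_subset (Finset.subset_univ _) fun c _ hc => ?_).symm
  simp only [Finset.mem_insert, Finset.mem_union, not_or] at hc
  exact hf c hc.1 hc.2.1 hc.2.2

theorem exists_mult {g : G} (hg1 : g ≠ 1) (hg : g ^ 27 = 1) : ∃ m : ℕ,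
    ((Nat.card (Subgroup.centralizer ({g} : Set G)) *
        Nat.card (Subgroup.centralizer ({g} : Set G)) * m : ℕ) : ℤ) =
      117 * (45 + 6 * val F g - 7 * val F g ^ 2) := by
  obtain ⟨⟨w, hwP⟩, hw⟩ := exists_prime_orderOf_dvd_card' (G := (F.P : Subgroup G)) 13
    (by rw [F.hP])
  rw [Subgroup.orderOf_mk] at hw
  have hw' : 13 ∣ orderOf w⁻¹ := by rw [orderOf_inv, hw]
  obtain ⟨m, hm⟩ := dvd_card_sols g g w
  refine ⟨m, ?_⟩
  obtain ⟨hχw, hψw, hfw⟩ := value_thirteen F hw'
  have hS := card_sols g g w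
  rw [sum_eq F (fun c => (c : G → ℂ) w⁻¹ * (c : G → ℂ) g * (c : G → ℂ) g / (c : G → ℂ) 1)
    (fun c h1 hK hf => by rw [other_zero F c h1 hK hf hw', zero_mul, zero_mul, zero_div])] at hS
  have hsum : ∑ c ∈ F.D.fam, (c : G → ℂ) w⁻¹ * (c : G → ℂ) g * (c : G → ℂ) g / (c : G → ℂ) 1 =
      (-1) * ((1 - val F g : ℤ) : ℂ) * ((1 - val F g : ℤ) : ℂ) / 16 := by
    rw [← hfw, Finset.sum_mul, Finset.sum_mul, Finset.sum_div]
    refine Finset.sum_congr rfl fun c hc => ?_
    rw [fam_three F hc hg1 hg, apply_one_eq, F.D.fam_deg c hc, F.deg_θ]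
    norm_num
  rw [hsum] at hS
  simp only [hχw, hψw, ψ_three F (three_dvd hg1 hg), apply_one_eq, F.deg_χ,
    oneChar_apply, val_spec F g, PrimeExceptional.deg_oneChar, F.card] at hS
  rw [← hm, ← Int.cast_inj (α := ℂ), Int.cast_natCast, hS]
  push_cast
  ring

end Cfsg.Agent.Lib.RecogThree.L33.Order.Mult
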