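import Cfsg.Agent.Lib.RecogThree.L33.Order.Mult

/-!
The orthogonality relations of the exceptional family, summed over the elements of `3`-power order.
-/

set_option autoImplicit false
set_option linter.style.haveILetI false
set_option linter.unusedSectionVars false

namespace Cfsg.Agent.Lib.RecogThree.L33.Order.Sums

open Cfsg.Agent.Lib Cfsg.Agent.Lib.Classif Cfsg.Agent.Lib.Characters
open Cfsg.Agent.Lib.Characters.Basic Chars
open Cfsg.Agent.Lib.Classif.PrimeExceptional (deg apply_one_eq)
open scoped ComplexConjugate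

universe u

variable {G : Type u} [Group G] [Fintype G] [IsSimpleGroup G] [Fact (Nat.Prime 13)]
  [DecidableEq G] (F : Fam G)

/-- The non-trivial elements of `3`-power order. -/
def threes (G : Type u) [Group G] [Fintype G] [DecidableEq G] : Finset G :=
  Finset.univ.filter fun g => g ≠ 1 ∧ g ^ 27 = 1

theorem mem_threes {g : G} : g ∈ threes G ↔ g ≠ 1 ∧ g ^ 27 = 1 := by simp [threes]

include F in
theorem card_thirteen : (Finset.univ.filter fun g : G => 13 ∣ orderOf g).card = 1728 := by
  classical
  have h12 : ∀ a : G, (Finset.univ.filter fun g : G =>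
      a⁻¹ * g * a ∈ (F.P : Subgroup G) ∧ a⁻¹ * g * a ≠ 1).card = 12 := by
    intro a
    let e : {g : G // a⁻¹ * g * a ∈ (F.P : Subgroup G) ∧ a⁻¹ * g * a ≠ 1} ≃
        {y : (F.P : Subgroup G) // y ≠ 1} :=
      { toFun := fun g => ⟨⟨a⁻¹ * g.1 * a, g.2.1⟩, fun e => g.2.2 (congrArg Subtype.val e)⟩
        invFun := fun y => ⟨a * y.1.1 * a⁻¹, by
          rw [show a⁻¹ * (a * y.1.1 * a⁻¹) * a = y.1.1 by group]
          exact ⟨y.1.2, fun e => y.2 (Subtype.ext e)⟩⟩
        left_inv := fun g => Subtype.ext (show a * (a⁻¹ * g.1 * a) * a⁻¹ = g.1 by group)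
        right_inv := fun y => Subtype.ext (Subtype.ext
          (show a⁻¹ * (a * y.1.1 * a⁻¹) * a = y.1.1 by group)) }
    rw [← Fintype.card_subtype, ← Nat.card_eq_fintype_card, Nat.card_congr e,
      Nat.card_eq_fintype_card, Fintype.card_subtype_compl, Fintype.card_subtype_eq,
      ← Nat.card_eq_fintype_card, F.hP]
  have hall : ∑ g : G, (Finset.univ.filter fun a : G =>
      a⁻¹ * g * a ∈ (F.P : Subgroup G) ∧ a⁻¹ * g * a ≠ 1).card = 5616 * 12 := by
    simp only [Finset.card_filter] at h12 ⊢
    rw [Finset.sum_comm, Finset.sum_congr rfl fun a _ => h12 a, Finset.sum_const, smul_eq_mul,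
      Finset.card_univ, ← Nat.card_eq_fintype_card, F.card]
  rw [← Finset.sum_filter_add_sum_filter_not Finset.univ (fun g : G => 13 ∣ orderOf g),
    Finset.sum_congr rfl (g := fun _ => 39) fun g hg => by
      rw [← Fintype.card_subtype, ← Nat.card_eq_fintype_card,
        ClassSum.card_conj_mem_indicator F.P F.hP F.hC (Finset.mem_filter.mp hg).2,
        card_normalizer F],
    Finset.sum_const, smul_eq_mul] at hall
  rw [Finset.sum_eq_zero fun g hg => ?_, add_zero] at hall
  · omega
  · refine Finset.card_eq_zero.mpr (Finset.filter_eq_empty_iff.mpr fun a _ ha => ?_)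
    apply (Finset.mem_filter.mp hg).2
    have h1 : orderOf (a⁻¹ * g * a) = orderOf g := by
      simpa using (MulAut.conj a⁻¹).orderOf_eq g
    have h2 := Subgroup.orderOf_dvd_natCard _ ha.1
    rw [F.hP] at h2
    rcases (Nat.dvd_prime Fact.out).mp h2 with e | e
    · exact absurd (orderOf_eq_one_iff.mp e) ha.2
    · rw [← h1, e]

include F in
theorem three_or_even {g : G} (h13 : ¬ 13 ∣ orderOf g) : g ^ 27 = 1 ∨ 2 ∣ orderOf g := by
  by_cases h2 : 2 ∣ orderOf g
  · exact Or.inr h2
  left
  refine orderOf_dvd_iff_pow_eq_one.mp ?_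
  have h := orderOf_dvd_natCard g
  rw [F.card] at h
  refine (Nat.Coprime.mul_right (k := orderOf g) (m := 16) (n := 13) ?_ ?_).dvd_of_dvd_mul_left
    (show orderOf g ∣ 208 * 27 by exact h)
  · exact ((Nat.prime_two.coprime_iff_not_dvd.mpr h2).pow_left 4).symm
  · exact ((Nat.Prime.coprime_iff_not_dvd Fact.out).mpr h13).symm

include F in
/-- Evaluation of a function of the three kinds of elements. -/
theorem sum_split (f : G → ℂ) (hf : ∀ g : G, g ≠ 1 → ¬ 13 ∣ orderOf g → 2 ∣ orderOf g → f g = 0)
    {s : ℂ} (hs : ∀ g : G, 13 ∣ orderOf g → f g = s) :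
    ∑ g : G, f g = f 1 + 1728 * s + ∑ g ∈ threes G, f g := by
  rw [← Finset.add_sum_erase _ _ (Finset.mem_univ (1 : G)), add_assoc]
  congr 1
  rw [← Finset.sum_filter_add_sum_filter_not (Finset.univ.erase (1 : G))
    (fun g : G => 13 ∣ orderOf g)]
  have h1 : (Finset.univ.erase (1 : G)).filter (fun g : G => 13 ∣ orderOf g) =
      Finset.univ.filter fun g : G => 13 ∣ orderOf g := by
    ext g
    simp only [Finset.mem_filter, Finset.mem_erase, Finset.mem_univ, and_true, true_and,
      and_iff_right_iff_imp]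
    rintro h rfl
    rw [orderOf_one] at h
    norm_num at h
  rw [h1, Finset.sum_congr rfl fun g hg => hs g (Finset.mem_filter.mp hg).2, Finset.sum_const,
    card_thirteen F, nsmul_eq_mul]
  push_cast
  congr 1
  refine (Finset.sum_subset (fun g hg => ?_) fun g hg hg' => ?_).symm
  · obtain ⟨hg1, hg27⟩ := mem_threes.mp hg
    exact Finset.mem_filter.mpr ⟨Finset.mem_erase.mpr ⟨hg1, Finset.mem_univ _⟩, not_thirteen hg27⟩
  · obtain ⟨h, h13⟩ := Finset.mem_filter.mp hg
    have hg1 := (Finset.mem_erase.mp h).1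
    exact hf g hg1 h13 ((three_or_even F h13).resolve_left fun e => hg' (mem_threes.mpr ⟨hg1, e⟩))

/-- The sum of the exceptional characters. -/
noncomputable def theta (g : G) : ℂ := ∑ c ∈ F.D.fam, (c : G → ℂ) g

theorem theta_even {g : G} (h13 : ¬ 13 ∣ orderOf g) (h2 : 2 ∣ orderOf g) : theta F g = 0 :=
  Finset.sum_eq_zero fun c hc => by rw [F.D.fam_regular c hc g h13, θ_two F h2]

theorem theta_one : theta F 1 = 64 := by
  rw [theta, Finset.sum_congr rfl fun c hc => by rw [apply_one_eq, F.D.fam_deg c hc, F.deg_θ],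
    Finset.sum_const, fam_card F]
  norm_num

theorem theta_three {g : G} (hg : g ∈ threes G) :
    theta F g = 4 * ((1 - val F g : ℤ) : ℂ) := by
  rw [theta, Finset.sum_congr rfl fun c hc =>
    fam_three F hc (mem_threes.mp hg).1 (mem_threes.mp hg).2, Finset.sum_const, fam_card F,
    nsmul_eq_mul]
  norm_num

theorem sum_val : ∑ g ∈ threes G, (1 - val F g) = 416 := by
  have h0 : ∑ g : G, theta F g = 0 := by
    simp only [theta]
    rw [Finset.sum_comm]
    refine Finset.sum_eq_zero fun c hc => ?_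
    have h := classInner_irr_of_ne (χ := c) (ψ := oneChar G) fun e => F.D.fam_one (e ▸ hc)
    rw [Cfsg.classInner] at h
    have h' := (mul_eq_zero.mp h).resolve_left
      (inv_ne_zero (Nat.cast_ne_zero.mpr Nat.card_pos.ne'))
    simpa [oneChar_apply] using h'
  rw [sum_split F _ (fun g _ h h2 => theta_even F h h2)
      (fun g hg => (value_thirteen F hg).2.2), theta_one,
    Finset.sum_congr rfl fun g hg => theta_three F hg, ← Finset.mul_sum, ← Int.cast_sum] at h0
  rw [← Int.cast_inj (α := ℂ)]
  push_cast at h0 ⊢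
  linear_combination (1 / 4 : ℂ) * h0

theorem sum_val_sq : ∑ g ∈ threes G, (1 - val F g) ^ 2 = 1040 := by
  classical
  have h0 : ∑ g : G, theta F g * conj (theta F g) = 4 * 5616 := by
    simp only [theta, map_sum, Finset.sum_mul, Finset.mul_sum]
    rw [Finset.sum_comm, Finset.sum_congr rfl (g := fun _ => (5616 : ℂ)) fun c hc => ?_,
      Finset.sum_const, fam_card F, nsmul_eq_mul, Nat.cast_ofNat]
    rw [Finset.sum_comm, Finset.sum_eq_single c]
    · have h := classInner_self_irr c
      rw [Cfsg.classInner, inv_mul_eq_one₀ (Nat.cast_ne_zero.mpr Nat.card_pos.ne'), F.card] at h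
      exact_mod_cast h.symm
    · intro d _ hd
      have h := classInner_irr_of_ne (χ := d) (ψ := c) hd
      rw [Cfsg.classInner] at h
      exact (mul_eq_zero.mp h).resolve_left (inv_ne_zero (Nat.cast_ne_zero.mpr Nat.card_pos.ne'))
    · exact fun h => absurd hc h
  rw [sum_split F _ (fun g _ h h2 => by rw [theta_even F h h2, zero_mul]) (s := 1)
      (fun g hg => by rw [show theta F g = -1 from (value_thirteen F hg).2.2]; norm_num),
    theta_one, Finset.sum_congr rfl (g := fun g => 16 * (((1 - val F g) ^ 2 : ℤ) : ℂ)) fun g hg =>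
      by rw [theta_three F hg, map_mul, map_intCast, map_ofNat]; push_cast; ring,
    ← Finset.mul_sum, ← Int.cast_sum, map_ofNat] at h0
  rw [← Int.cast_inj (α := ℂ)]
  push_cast at h0 ⊢
  linear_combination (1 / 16 : ℂ) * h0

end Cfsg.Agent.Lib.RecogThree.L33.Order.Sums
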