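import Cfsg.Agent.Lib.RecogThree.L33.Order.Sums
import Cfsg.Agent.Lib.RecogThree.L33.Three

/-!
The elements of `3`-power order: two kinds, with centraliser of order `9` or at least `26`.
-/

set_option autoImplicit false
set_option linter.style.haveILetI false
set_option linter.unusedSectionVars false

namespace Cfsg.Agent.Lib.RecogThree.L33.Order.Values

open Cfsg.Agent.Lib Cfsg.Agent.Lib.Classif Cfsg.Agent.Lib.Characters
open Cfsg.Agent.Lib.Characters.Basic Chars Three
open Cfsg.Agent.Lib.Classif.PrimeExceptional (deg)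

universe u

variable {G : Type u} [Group G] [Finite G] [IsSimpleGroup G] [Fact (Nat.Prime 13)] (F : Fam G)

include F in
theorem card' : Nat.card G = 27 * 208 := by rw [F.card]

theorem mult_range {g : G} (hg1 : g ≠ 1) (hg : g ^ 27 = 1) : -2 ≤ val F g ∧ val F g ≤ 3 := by
  haveI := Fintype.ofFinite G
  haveI := Fintype.ofFinite (Cfsg.IrrCharacter G)
  obtain ⟨m, hm⟩ := Mult.exists_mult F hg1 hg
  have h : (0 : ℤ) ≤ 45 + 6 * val F g - 7 * val F g ^ 2 := by
    have h' := Int.natCast_nonneg (Nat.card (Subgroup.centralizer ({g} : Set G)) *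
      Nat.card (Subgroup.centralizer ({g} : Set G)) * m)
    rw [hm] at h'
    linarith
  constructor <;> nlinarith

theorem val_eq_three_of_27 {g : G} (hg1 : g ≠ 1) (hg : g ^ 27 = 1)
    (hC : 27 ∣ Nat.card (Subgroup.centralizer ({g} : Set G))) : val F g = 3 := by
  haveI := Fintype.ofFinite G
  haveI := Fintype.ofFinite (Cfsg.IrrCharacter G)
  obtain ⟨m, hm⟩ := Mult.exists_mult F hg1 hg
  obtain ⟨h1, h2⟩ := mult_range F hg1 hg
  have hd : (729 : ℤ) ∣ 117 * (45 + 6 * val F g - 7 * val F g ^ 2) := by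
    rw [← hm]
    exact_mod_cast (show 729 ∣ Nat.card (Subgroup.centralizer ({g} : Set G)) *
      Nat.card (Subgroup.centralizer ({g} : Set G)) * m from
        Dvd.dvd.mul_right (show (27 * 27) ∣ _ from mul_dvd_mul hC hC) m)
  interval_cases h : val F g <;> first | rfl | norm_num at hd

theorem cent_of_zero {g : G} (hg1 : g ≠ 1) (hg : g ^ 27 = 1) (h0 : val F g = 0) :
    Nat.card (Subgroup.centralizer ({g} : Set G)) = 9 := by
  haveI := Fintype.ofFinite G
  haveI := Fintype.ofFinite (Cfsg.IrrCharacter G)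
  obtain ⟨m, hm⟩ := Mult.exists_mult F hg1 hg
  rw [h0] at hm
  norm_num at hm
  obtain ⟨Q, hQ, hgQ⟩ := exists_27 (card' F) hg
  have h9 := nine_le_cent hQ hgQ
  have hC : Nat.card (Subgroup.centralizer ({g} : Set G)) ∣ 5616 :=
    F.card ▸ Subgroup.card_subgroup_dvd_card _
  have hCC : Nat.card (Subgroup.centralizer ({g} : Set G)) *
      Nat.card (Subgroup.centralizer ({g} : Set G)) ∣ 5265 := ⟨m, by exact_mod_cast hm.symm⟩
  have key : ∀ c ∈ Nat.divisors 5616, c * c ∣ 5265 → c ∣ 9 := by decide +kernel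
  exact Nat.dvd_antisymm (key _ (Nat.mem_divisors.mpr ⟨hC, by norm_num⟩) hCC) h9

theorem cent_of_three {g : G} (hg1 : g ≠ 1) (hg : g ^ 27 = 1) (h3 : val F g = 3) :
    26 ≤ Nat.card (Subgroup.centralizer ({g} : Set G)) := by
  classical
  have h := F.D.centralizer_le (g := g) (not_thirteen hg) (fun c => if c = F.χ then 3 else 0) (-2)
    (fun c hc => by
      rcases F.K_cases c hc with rfl | rfl
      · rw [if_pos rfl, val_spec, h3]
      · rw [if_neg (ne_ψ F).symm, ψ_three F (three_dvd hg1 hg), Int.cast_zero])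
    (by rw [fam_three F F.D.θ_mem hg1 hg, h3]; norm_num)
  have hK : F.D.K = {F.χ, F.ψ} := by
    ext c
    simp only [Finset.mem_insert, Finset.mem_singleton]
    exact ⟨F.K_cases c, fun h => by rcases h with rfl | rfl; exacts [F.χ_mem, F.ψ_mem]⟩
  rw [hK, Finset.sum_pair (ne_ψ F), fam_card F, if_pos rfl, if_neg (ne_ψ F).symm] at h
  norm_num at h
  omega

/-- The Sylow `3`-subgroups are not abelian. -/
theorem not_abelian (F : Fam G) {P : Subgroup G} (hP : Nat.card P = 27) :
    ¬ ∀ x ∈ P, ∀ y ∈ P, x * y = y * x := by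
  classical
  intro hab
  haveI := Fintype.ofFinite G
  have hall : ∀ g : G, g ∈ Sums.threes G → val F g = 3 := by
    intro g hg
    obtain ⟨hg1, hg27⟩ := Sums.mem_threes.mp hg
    obtain ⟨Q, hQ, hgQ⟩ := exists_27 (card' F) hg27
    obtain ⟨c, hc⟩ := conj_27 (card' F) hP hQ
    refine val_eq_three_of_27 F hg1 hg27 (hQ ▸ Subgroup.card_dvd_of_le fun y hy => ?_)
    rw [Subgroup.mem_centralizer_singleton_iff]
    have h := hab _ ((hc y).mp hy) _ ((hc g).mp hgQ)
    calc y * g = c * (c⁻¹ * y * c * (c⁻¹ * g * c)) * c⁻¹ := by group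
      _ = c * (c⁻¹ * g * c * (c⁻¹ * y * c)) * c⁻¹ := by rw [h]
      _ = g * y := by group
  have h := Sums.sum_val F
  rw [Finset.sum_congr rfl fun g hg => by rw [hall g hg], Finset.sum_const, nsmul_eq_mul] at h
  omega

include F in
theorem pow_nine {g : G} (hg : g ^ 27 = 1) : g ^ 9 = 1 := by
  by_contra h9
  obtain ⟨P, hP, hgP⟩ := exists_27 (card' F) hg
  have ho : orderOf g = 27 := orderOf_eq_prime_pow (p := 3) (n := 2)
    (by norm_num; exact h9) (by norm_num; exact hg)
  have hPg : Subgroup.zpowers g = P := Subgroup.eq_of_le_of_card_ge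
    (Subgroup.zpowers_le.mpr hgP) (by rw [Nat.card_zpowers, ho, hP])
  refine not_abelian F hP fun x hx y hy => ?_
  obtain ⟨i, rfl⟩ := Subgroup.mem_zpowers_iff.mp (hPg ▸ hx)
  obtain ⟨j, rfl⟩ := Subgroup.mem_zpowers_iff.mp (hPg ▸ hy)
  exact zpow_mul_comm g i j

include F in
theorem cube_mem {P : Subgroup G} (hP : Nat.card P = 27) {g : G} (hg : g ∈ P) :
    g ^ 3 ∈ zc P := by
  haveI : Fact (Nat.Prime 3) := ⟨Nat.prime_three⟩
  by_cases h3 : g ^ 3 = 1
  · rw [h3]; exact one_mem _
  have ho : orderOf g = 9 := orderOf_eq_prime_pow (p := 3) (n := 1)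
    (by norm_num; exact h3) (by norm_num; exact pow_nine F (pow_27 hP hg))
  have hZ := card_zc hP (not_abelian F hP)
  have hle := zc_le_nine hP hZ (Subgroup.zpowers_le.mpr hg) (by rw [Nat.card_zpowers, ho])
  obtain ⟨⟨z, hzP⟩, hz⟩ := exists_prime_orderOf_dvd_card' (G := zc P) 3 (by rw [hZ])
  rw [Subgroup.orderOf_mk] at hz
  obtain ⟨i, hi⟩ := (mem_powers_iff_mem_zpowers.mpr (hle hzP) : z ∈ Submonoid.powers g)
  have h9 : 9 ∣ i * 3 := ho ▸ orderOf_dvd_of_pow_eq_one (by
    rw [pow_mul, show g ^ i = z from hi, ← hz, pow_orderOf_eq_one])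
  obtain ⟨j, rfl⟩ : 3 ∣ i := by omega
  have hj : ¬ 3 ∣ j := by
    rintro ⟨k, rfl⟩
    have : z = 1 := by
      rw [← hi]
      show g ^ (3 * (3 * k)) = 1
      rw [← mul_assoc, pow_mul, show 3 * 3 = orderOf g by rw [ho], pow_orderOf_eq_one, one_pow]
    rw [this, orderOf_one] at hz
    norm_num at hz
  obtain ⟨m, hm⟩ := exists_pow_eq_self_of_coprime (x := g ^ 3) (n := j) (by
    rw [orderOf_eq_prime (p := 3) (by rw [← pow_mul, show 3 * 3 = orderOf g by rw [ho],
      pow_orderOf_eq_one]) h3]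
    exact (Nat.prime_three.coprime_iff_not_dvd.mpr hj).symm)
  rw [← hm, ← pow_mul g 3 j, show g ^ (3 * j) = z from hi]
  exact pow_mem hzP m

/-- The sum of the character over a cyclic subgroup. -/
theorem sum_powers (g : G) :
    ∃ n : ℕ, ∑ i : Fin (orderOf g), val F (g ^ i.1) = (orderOf g : ℤ) * n := by
  haveI := Fintype.ofFinite G
  haveI := Fintype.ofFinite (Subgroup.zpowers g)
  obtain ⟨n, hn⟩ := H80.ClassMult.exists_sum_subgroup F.χ (Subgroup.zpowers g)
  refine ⟨n, ?_⟩
  rw [Nat.card_zpowers] at hn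
  rw [← Int.cast_inj (α := ℂ)]
  push_cast
  rw [← hn]
  refine Fintype.sum_equiv (finEquivZPowers (isOfFinOrder_of_finite g)) _ _ fun i => ?_
  rw [← val_spec]
  rfl

theorem val_cases_cube {g : G} (hg1 : g ≠ 1) (hg : g ^ 3 = 1) : val F g = 0 ∨ val F g = 3 := by
  obtain ⟨n, hn⟩ := sum_powers F g
  have ho : orderOf g = 3 := by
    haveI : Fact (Nat.Prime 3) := ⟨Nat.prime_three⟩
    exact orderOf_eq_prime hg hg1
  have hg2 : g ^ 2 = g⁻¹ := eq_inv_of_mul_eq_one_left (by rw [← pow_succ, hg])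
  rw [Fin.sum_univ_eq_sum_range (fun i => val F (g ^ i)), ho, Finset.sum_range_succ,
    Finset.sum_range_succ, Finset.sum_range_one, pow_zero, pow_one, hg2, val_inv, val_one] at hn
  have hr := mult_range F hg1 (by rw [show 27 = 3 * 9 by norm_num, pow_mul, hg, one_pow])
  push_cast at hn
  omega

theorem val_cases {g : G} (hg1 : g ≠ 1) (hg : g ^ 27 = 1) : val F g = 0 ∨ val F g = 3 := by
  by_cases h3 : g ^ 3 = 1
  · exact val_cases_cube F hg1 h3
  haveI : Fact (Nat.Prime 3) := ⟨Nat.prime_three⟩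
  have h9 := pow_nine F hg
  have ho : orderOf g = 9 := orderOf_eq_prime_pow (p := 3) (n := 1)
    (by norm_num; exact h3) (by norm_num; exact h9)
  obtain ⟨P, hP, hgP⟩ := exists_27 (card' F) hg
  have hX : val F (g ^ 3) = 3 := by
    refine val_eq_three_of_27 F h3 ?_ (hP ▸ Subgroup.card_dvd_of_le fun y hy => ?_)
    · rw [← pow_mul, mul_comm, pow_mul, hg, one_pow]
    · rw [Subgroup.mem_centralizer_singleton_iff]
      exact ((mem_zc.mp (cube_mem F hP hgP)).2 y hy).symm
  have hk : ∀ i k : ℕ, k.Coprime 5616 → k % 9 = i → val F (g ^ i) = val F g := fun i k hk hi => by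
    rw [show g ^ i = g ^ k from pow_eq_pow_iff_modEq.mpr (by rw [ho, Nat.ModEq, ← hi, Nat.mod_mod]),
      val_pow F hk]
  have e6 : val F (g ^ 6) = 3 := by
    rw [show g ^ 6 = (g ^ 3)⁻¹ from eq_inv_of_mul_eq_one_left (by rw [← pow_add, h9]), val_inv, hX]
  obtain ⟨n, hn⟩ := sum_powers F g
  rw [Fin.sum_univ_eq_sum_range (fun i => val F (g ^ i)), ho] at hn
  simp only [Finset.sum_range_succ, Finset.sum_range_zero] at hn
  rw [pow_zero, val_one, pow_one, hk 2 11 (by norm_num) (by norm_num), hX,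
    hk 4 31 (by norm_num) (by norm_num), hk 5 5 (by norm_num) (by norm_num), e6,
    hk 7 7 (by norm_num) (by norm_num), hk 8 17 (by norm_num) (by norm_num)] at hn
  have hr := mult_range F hg1 hg
  push_cast at hn
  omega

theorem counts [Fintype G] [DecidableEq G] :
    ((Sums.threes G).filter fun g => val F g = 0).card = 624 ∧
      ((Sums.threes G).filter fun g => val F g = 3).card = 104 := by
  have hneg : (Sums.threes G).filter (fun g => ¬ val F g = 0) =
      (Sums.threes G).filter fun g => val F g = 3 := Finset.filter_congr fun g hg => by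
    obtain ⟨h1, h27⟩ := Sums.mem_threes.mp hg
    have := val_cases F h1 h27
    omega
  have e : ∀ f : ℤ → ℤ, ∑ g ∈ Sums.threes G, f (val F g) =
      ((Sums.threes G).filter fun g => val F g = 0).card * f 0 +
        ((Sums.threes G).filter fun g => val F g = 3).card * f 3 := fun f => by
    rw [← Finset.sum_filter_add_sum_filter_not (Sums.threes G) fun g => val F g = 0, hneg,
      Finset.sum_congr rfl fun g hg => by rw [(Finset.mem_filter.mp hg).2],
      Finset.sum_congr (s₁ := (Sums.threes G).filter fun g => val F g = 3) rfl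
        fun g hg => by rw [(Finset.mem_filter.mp hg).2],
      Finset.sum_const, Finset.sum_const, nsmul_eq_mul, nsmul_eq_mul]
  have h1 := Sums.sum_val F
  have h2 := Sums.sum_val_sq F
  rw [e fun x => 1 - x] at h1
  rw [e fun x => (1 - x) ^ 2] at h2
  norm_num at h1 h2
  omega

end Cfsg.Agent.Lib.RecogThree.L33.Order.Values
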